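import Groth.Agent.Lib.GaPts.Basic
import Groth.Agent.Lib.GrpLaw19.Basic
import Groth.Agent.Lib.Desc.Over
import Groth.Agent.Lib.WeilEq.Represent
import Groth.Agent.Lib.PurityDesc25.Affine
import Groth.Agent.Lib.SmoothRed.Basic
import Groth.Agent.Lib.SubSpec19.Pieces

/-!
# Smooth affine models of the additive group in residue characteristic zero
-/

set_option autoImplicit false
set_option linter.style.haveILetI false
set_option linter.unusedSectionVars false
set_option backward.isDefEq.respectTransparency false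
set_option backward.isDefEq.respectTransparency.types false
universe u

open CategoryTheory CategoryTheory.Limits MonoidalCategory CartesianMonoidalCategory MonObj GrpObj AlgebraicGeometry
open scoped Polynomial

noncomputable section

namespace Groth.Agent.AddModel19

/-- The scalar functions of a scheme over an affine base. -/
def scal {R : Type u} [CommRing R] (T : Over (Spec (CommRingCat.of R))) : R →+* Γ(T.left, ⊤) :=
  ((Scheme.ΓSpecIso (CommRingCat.of R)).inv ≫ T.hom.appTop).hom

theorem appTop_scal {R : Type u} [CommRing R] {T T' : Over (Spec (CommRingCat.of R))} (g : T' ⟶ T) :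
    g.left.appTop.hom.comp (scal T) = scal T' := by
  show ((Scheme.ΓSpecIso (CommRingCat.of R)).inv ≫ T.hom.appTop ≫ g.left.appTop).hom = _
  rw [← Scheme.Hom.comp_appTop, Over.w g]
  rfl

theorem toSpecΓ_scal {R : Type u} [CommRing R] (T : Over (Spec (CommRingCat.of R))) :
    T.left.toSpecΓ ≫ Spec.map (CommRingCat.ofHom (scal T)) = T.hom := by
  show T.left.toSpecΓ ≫ Spec.map ((Scheme.ΓSpecIso (CommRingCat.of R)).inv ≫ T.hom.appTop) = _
  rw [Spec.map_comp, ← Category.assoc, ← Scheme.toSpecΓ_naturality, Category.assoc, ← SpecMap_ΓSpecIso_hom,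
    ← Spec.map_comp, Iso.inv_hom_id, Spec.map_id, Category.comp_id]

theorem isoSpec_inv_hom {R : Type u} [CommRing R] (T : Over (Spec (CommRingCat.of R))) [IsAffine T.left] :
    T.left.isoSpec.inv ≫ T.hom = Spec.map (CommRingCat.ofHom (scal T)) := by
  rw [Iso.inv_comp_eq]
  exact (toSpecΓ_scal T).symm

theorem isoSpec_inv_appTop' (X : Scheme.{u}) [IsAffine X] :
    X.isoSpec.inv.appTop = (Scheme.ΓSpecIso Γ(X, ⊤)).inv := by
  haveI : IsIso X.isoSpec.hom.appTop := inferInstanceAs (IsIso (Scheme.Γ.map X.isoSpec.hom.op))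
  rw [← cancel_mono X.isoSpec.hom.appTop, ← Scheme.Hom.comp_appTop, Iso.hom_inv_id]
  simp [Scheme.isoSpec, Scheme.toSpecΓ_appTop]

theorem ΓSpecIso_map_apply {R S : Type u} [CommRing R] [CommRing S] (φ : R →+* S) (r : R) :
    (Scheme.ΓSpecIso (CommRingCat.of S)).hom ((Spec.map (CommRingCat.ofHom φ)).appTop
      ((Scheme.ΓSpecIso (CommRingCat.of R)).inv r)) = φ r := by
  have h := ConcreteCategory.congr_hom (Scheme.ΓSpecIso_inv_naturality (CommRingCat.ofHom φ)) r
  exact (congrArg _ h.symm).trans (Iso.inv_hom_id_apply (Scheme.ΓSpecIso (CommRingCat.of S)) (φ r))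

/-- Evaluation of polynomials at a function. -/
def ev {R : Type u} [CommRing R] {T : Over (Spec (CommRingCat.of R))} (v : Γ(T.left, ⊤)) : R[X] →+* Γ(T.left, ⊤) :=
  Polynomial.eval₂RingHom (scal T) v

theorem appTop_ev {R : Type u} [CommRing R] {T T' : Over (Spec (CommRingCat.of R))} (g : T' ⟶ T) (v : Γ(T.left, ⊤)) :
    g.left.appTop.hom.comp (ev v) = ev (g.left.appTop v) := by
  refine Polynomial.ringHom_ext (fun r => ?_) ?_
  · simp only [ev, RingHom.comp_apply, Polynomial.coe_eval₂RingHom, Polynomial.eval₂_C]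
    exact RingHom.congr_fun (appTop_scal g) r
  · simp [ev]

/-- The additive group has only polynomial functions. -/
theorem ev_gen_surjective (R : Type u) [CommRing R] :
    Function.Surjective (ev (Red.gaFn (𝟙 (Red.Ga (Spec (CommRingCat.of R)))))) := by
  let Gm' := Red.Ga (Spec (CommRingCat.of R))
  let v := Red.gaFn (𝟙 Gm')
  let T : Over (Spec (CommRingCat.of R)) := Over.mk (Spec.map (CommRingCat.ofHom (Polynomial.C : R →+* R[X])))
  let q : T ⟶ Gm' := GaPts.ptOfFn ((Scheme.ΓSpecIso (CommRingCat.of R[X])).inv Polynomial.X)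
  let f : Gm' ⟶ T := Over.homMk (Gm'.left.toSpecΓ ≫ Spec.map (CommRingCat.ofHom (ev v))) (by
    show (Gm'.left.toSpecΓ ≫ Spec.map (CommRingCat.ofHom (ev v))) ≫ Spec.map (CommRingCat.ofHom Polynomial.C) = Gm'.hom
    rw [Category.assoc, ← Spec.map_comp, ← CommRingCat.ofHom_comp,
      show (ev v).comp Polynomial.C = scal Gm' from RingHom.ext fun r => Polynomial.eval₂_C _ _]
    exact toSpecΓ_scal Gm')
  have hf : ∀ p, f.left.appTop ((Scheme.ΓSpecIso (CommRingCat.of R[X])).inv p) = ev v p := by
    intro p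
    show (Gm'.left.toSpecΓ ≫ Spec.map (CommRingCat.ofHom (ev v))).appTop _ = _
    rw [Scheme.Hom.comp_appTop, Scheme.toSpecΓ_appTop, CommRingCat.comp_apply]
    exact ΓSpecIso_map_apply (ev v) _
  have hfq : f ≫ q = 𝟙 Gm' := by
    refine GaPts.gaFn_injective ?_
    show Red.gaFn (f ≫ q) = v
    rw [GaPts.gaFn_comp, GaPts.gaFn_ptOfFn, hf]
    exact Polynomial.eval₂_X _ _
  intro z
  refine ⟨(Scheme.ΓSpecIso (CommRingCat.of R[X])).hom (q.left.appTop z), ?_⟩
  rw [← hf, Iso.hom_inv_id_apply]
  show (q.left.appTop ≫ f.left.appTop) z = z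
  rw [← Scheme.Hom.comp_appTop, ← Over.comp_left, hfq]
  simp

variable {R : Type u} [CommRing R] [IsDomain R] [IsDiscreteValuationRing R]
  {K : Type u} [Field K] [Algebra R K] [IsFractionRing R K]

/-- Restriction of functions to the generic fibre. -/
def res (T : Over (Spec (CommRingCat.of R))) :
    Γ(T.left, ⊤) →+* Γ((Red.bc (Spec.map (CommRingCat.ofHom (algebraMap R K))) T).left, ⊤) :=
  (pullback.fst T.hom (Spec.map (CommRingCat.ofHom (algebraMap R K)))).appTop.hom

theorem res_injective (T : Over (Spec (CommRingCat.of R))) [Flat T.hom] : Function.Injective (res (K := K) T) := by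
  haveI : IsSchemeTheoreticallyDominant (Spec.map (CommRingCat.ofHom (algebraMap R K))) :=
    WeilEq.isSchemeTheoreticallyDominant_SpecMap _ (IsFractionRing.injective R K)
  exact (pullback.fst T.hom (Spec.map (CommRingCat.ofHom (algebraMap R K)))).app_injective ⊤

theorem res_scal (T : Over (Spec (CommRingCat.of R))) (r : R) :
    res (K := K) T (scal T r) = scal (Red.bc (Spec.map (CommRingCat.ofHom (algebraMap R K))) T) (algebraMap R K r) := by
  let et := Spec.map (CommRingCat.ofHom (algebraMap R K))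
  show (pullback.fst T.hom et).appTop (T.hom.appTop ((Scheme.ΓSpecIso (CommRingCat.of R)).inv r)) =
    (pullback.snd T.hom et).appTop ((Scheme.ΓSpecIso (CommRingCat.of K)).inv (algebraMap R K r))
  rw [← CommRingCat.comp_apply, ← Scheme.Hom.comp_appTop, pullback.condition, Scheme.Hom.comp_appTop,
    CommRingCat.comp_apply]
  congr 1
  exact (ConcreteCategory.congr_hom (Scheme.ΓSpecIso_inv_naturality (CommRingCat.ofHom (algebraMap R K))) r).symm

theorem res_map {T U : Over (Spec (CommRingCat.of R))} (g : T ⟶ U) (a : Γ(U.left, ⊤)) :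
    res (K := K) T (g.left.appTop a) =
      ((Over.pullback (Spec.map (CommRingCat.ofHom (algebraMap R K)))).map g).left.appTop (res (K := K) U a) := by
  show (pullback.fst T.hom (Spec.map (CommRingCat.ofHom (algebraMap R K)))).appTop (g.left.appTop a) = _
  rw [← CommRingCat.comp_apply, ← Scheme.Hom.comp_appTop]
  show _ = (((Over.pullback (Spec.map (CommRingCat.ofHom (algebraMap R K)))).map g).left ≫
    pullback.fst U.hom (Spec.map (CommRingCat.ofHom (algebraMap R K)))).appTop a
  rw [show ((Over.pullback (Spec.map (CommRingCat.ofHom (algebraMap R K)))).map g).left ≫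
    pullback.fst U.hom (Spec.map (CommRingCat.ofHom (algebraMap R K))) =
      pullback.fst T.hom (Spec.map (CommRingCat.ofHom (algebraMap R K))) ≫ g.left from pullback.lift_fst _ _ _]
  rfl

variable (G : Over (Spec (CommRingCat.of R))) [GrpObj G] [IsAffine G.left] [Flat G.hom]

/-- Every function on the generic fibre extends after multiplication by a non-zero scalar. -/
theorem exists_scal_mul (z : Γ((Red.bc (Spec.map (CommRingCat.ofHom (algebraMap R K))) G).left, ⊤)) :
    ∃ (r : R) (a : Γ(G.left, ⊤)), r ≠ 0 ∧ res (K := K) G a = scal _ (algebraMap R K r) * z := by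
  let et := Spec.map (CommRingCat.ofHom (algebraMap R K))
  haveI : Flat et := (HasRingHomProperty.Spec_iff (P := @Flat)).2
    (RingHom.flat_algebraMap_iff.2 (IsLocalization.flat K (nonZeroDivisors R)))
  haveI : IsAffineHom G.hom := isAffineHom_of_isAffine _
  have H := PurityDesc25.isPushout_appTop (IsPullback.of_hasPullback G.hom et)
  have h := CommRingCat.closure_range_union_range_eq_top_of_isPushout H
  have hz : z ∈ Subring.closure (Set.range (pullback.fst G.hom et).appTop ∪ Set.range (pullback.snd G.hom et).appTop) :=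
    h ▸ trivial
  induction hz using Subring.closure_induction with
  | mem z hz =>
    rcases hz with ⟨a, rfl⟩ | ⟨b, rfl⟩
    · exact ⟨1, a, one_ne_zero, by rw [map_one, map_one, _root_.one_mul]; rfl⟩
    · obtain ⟨n, d, hd, hnd⟩ := IsFractionRing.div_surjective (A := R) ((Scheme.ΓSpecIso (CommRingCat.of K)).hom b)
      refine ⟨d, scal G n, nonZeroDivisors.ne_zero hd, ?_⟩
      have hd' : algebraMap R K d ≠ 0 := IsFractionRing.to_map_ne_zero_of_mem_nonZeroDivisors hd
      have e : (pullback.snd G.hom et).appTop b = scal (Red.bc et G) (algebraMap R K n / algebraMap R K d) := by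
        rw [hnd]
        show _ = (pullback.snd G.hom et).appTop ((Scheme.ΓSpecIso (CommRingCat.of K)).inv
          ((Scheme.ΓSpecIso (CommRingCat.of K)).hom b))
        rw [Iso.hom_inv_id_apply]
      rw [res_scal, e, ← map_mul (scal (Red.bc et G)), mul_div_cancel₀ _ hd']
  | zero => exact ⟨1, 0, one_ne_zero, (map_zero (res (K := K) G)).trans (mul_zero _).symm⟩
  | one => exact ⟨1, 1, one_ne_zero, (map_one (res (K := K) G)).trans (by rw [map_one, map_one, _root_.mul_one])⟩
  | add x y _ _ hx hy =>
    obtain ⟨r, a, hr, ha⟩ := hx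
    obtain ⟨s, b, hs, hb⟩ := hy
    exact ⟨r * s, scal G s * a + scal G r * b, mul_ne_zero hr hs, by
      rw [map_add, map_mul, map_mul, ha, hb, res_scal, res_scal, map_mul, map_mul]; ring⟩
  | neg x _ hx =>
    obtain ⟨r, a, hr, ha⟩ := hx
    exact ⟨r, -a, hr, by rw [map_neg, ha]; ring⟩
  | mul x y _ _ hx hy =>
    obtain ⟨r, a, hr, ha⟩ := hx
    obtain ⟨s, b, hs, hb⟩ := hy
    exact ⟨r * s, a * b, mul_ne_zero hr hs, by rw [map_mul, ha, hb, map_mul, map_mul]; ring⟩

variable [Smooth G.hom]

/-- Smoothness makes the special fibre reduced. -/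
theorem mem_span_of_isNilpotent {π : R} (hπ : Irreducible π) (y : Γ(G.left, ⊤))
    (hy : ∀ Q : Ideal Γ(G.left, ⊤), Q.IsPrime → scal G π ∈ Q → y ∈ Q) : y ∈ Ideal.span {scal G π} := by
  let A := Γ(G.left, ⊤)
  letI : Algebra R A := (scal G).toAlgebra
  haveI : IsAffineHom G.hom := isAffineHom_of_isAffine _
  haveI : Algebra.Smooth R A := by
    rw [← RingHom.smooth_algebraMap]
    exact RingHom.Smooth.comp (RingHom.Smooth.of_bijective
      (ConcreteCategory.bijective_of_isIso (Scheme.ΓSpecIso (CommRingCat.of R)).inv))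
      ((HasRingHomProperty.iff_of_isAffine (P := @Smooth)).1 ‹Smooth G.hom›)
  let P := IsLocalRing.maximalIdeal R
  haveI : P.IsMaximal := IsLocalRing.maximalIdeal.isMaximal R
  letI : Field (R ⧸ P) := Ideal.Quotient.field P
  haveI : Algebra.Smooth (R ⧸ P) (TensorProduct R (R ⧸ P) A) := inferInstance
  haveI := SmoothRed.isReduced_of_smooth_field (R ⧸ P) (TensorProduct R (R ⧸ P) A)
  let e := ((Algebra.TensorProduct.quotIdealMapEquivTensorQuot A P).toRingEquiv.trans
    (Algebra.TensorProduct.comm R A (R ⧸ P)).toRingEquiv)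
  haveI : IsReduced (A ⧸ P.map (algebraMap R A)) := isReduced_of_injective e e.injective
  have hP : P.map (algebraMap R A) = Ideal.span {scal G π} := by
    rw [show P = Ideal.span {π} from hπ.maximalIdeal_eq, Ideal.map_span, Set.image_singleton]; rfl
  rw [← hP, ← Ideal.Quotient.eq_zero_iff_mem]
  refine IsNilpotent.eq_zero ((nilpotent_iff_mem_prime).2 fun J hJ => ?_)
  exact hy (J.comap (Ideal.Quotient.mk _)) inferInstance (by
    rw [Ideal.mem_comap, Ideal.Quotient.eq_zero_iff_mem.2 (hP ▸ Ideal.mem_span_singleton_self _)]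
    exact zero_mem _)

/-- A smooth affine model of the additive group with residue characteristic zero is the additive group. -/
theorem exists_iso [CharZero (IsLocalRing.ResidueField R)] [Infinite K]
    (e : Red.bc (Spec.map (CommRingCat.ofHom (algebraMap R K))) G ≅ Red.Ga (Spec (CommRingCat.of K))) [IsMonHom e.hom] :
    ∃ e' : G ≅ Red.Ga (Spec (CommRingCat.of R)), IsMonHom e'.hom := by
  let et := Spec.map (CommRingCat.ofHom (algebraMap R K))
  let GK := Red.bc et G
  let A := Γ(G.left, ⊤)
  let x : Γ(GK.left, ⊤) := Red.gaFn e.hom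
  haveI : IsAffineHom G.hom := isAffineHom_of_isAffine _
  obtain ⟨π, hπ⟩ := IsDiscreteValuationRing.exists_irreducible R
  -- functions on the generic fibre are polynomials in the coordinate
  have hxe : ∀ p : K[X], e.hom.left.appTop (ev (Red.gaFn (𝟙 (Red.Ga (Spec (CommRingCat.of K))))) p) = ev x p := by
    intro p
    refine (RingHom.congr_fun (appTop_ev e.hom _) p).trans ?_
    rw [← GaPts.gaFn_comp, Category.comp_id]
  have hsurjK : Function.Surjective (ev x) := by
    intro z
    obtain ⟨p, hp⟩ := ev_gen_surjective K (e.inv.left.appTop z)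
    refine ⟨p, ?_⟩
    rw [← hxe, hp, ← CommRingCat.comp_apply, ← Scheme.Hom.comp_appTop, ← Over.comp_left, e.hom_inv_id]
    simp
  have hinjK : Function.Injective (ev x) := by
    rw [injective_iff_map_eq_zero]
    intro p hp
    refine Polynomial.funext fun v => ?_
    let g : 𝟙_ (Over (Spec (CommRingCat.of K))) ⟶ GK :=
      GaPts.ptOfFn ((Scheme.ΓSpecIso (CommRingCat.of K)).inv v) ≫ e.inv
    have h := congrArg g.left.appTop hp
    rw [← RingHom.comp_apply, appTop_ev, map_zero, ← GaPts.gaFn_comp, Category.assoc, e.inv_hom_id,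
      Category.comp_id, GaPts.gaFn_ptOfFn] at h
    rw [Polynomial.eval_zero]
    have h2 : ev (T := 𝟙_ (Over (Spec (CommRingCat.of K)))) ((Scheme.ΓSpecIso (CommRingCat.of K)).inv v) p =
        (Scheme.ΓSpecIso (CommRingCat.of K)).inv (p.eval v) := by
      have hs : scal (𝟙_ (Over (Spec (CommRingCat.of K)))) = (Scheme.ΓSpecIso (CommRingCat.of K)).inv.hom := by
        show ((Scheme.ΓSpecIso (CommRingCat.of K)).inv ≫ Scheme.Hom.appTop (𝟙 (Spec (CommRingCat.of K)))).hom = _
        simp
      rw [ev, Polynomial.coe_eval₂RingHom, hs]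
      exact Polynomial.eval₂_hom _ _
    rw [h2] at h
    exact (ConcreteCategory.bijective_of_isIso (Scheme.ΓSpecIso (CommRingCat.of K)).inv).1 (h.trans (map_zero _).symm)
  haveI : IsDomain Γ(GK.left, ⊤) :=
    MulEquiv.isDomain K[X] (RingEquiv.ofBijective _ ⟨hinjK, hsurjK⟩).symm.toMulEquiv
  haveI hdomA : IsDomain A := Function.Injective.isDomain (res (K := K) G) (res_injective G)
  -- the augmentation
  let ε : A →+* R := (η[G].left.appTop ≫ (Scheme.ΓSpecIso (CommRingCat.of R)).hom).hom
  have hε : ∀ r, ε (scal G r) = r := by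
    intro r
    show (Scheme.ΓSpecIso (CommRingCat.of R)).hom (η[G].left.appTop (scal G r)) = r
    rw [show η[G].left.appTop (scal G r) = scal (𝟙_ (Over (Spec (CommRingCat.of R)))) r from
      RingHom.congr_fun (appTop_scal η[G]) r]
    show (Scheme.ΓSpecIso (CommRingCat.of R)).hom ((Scheme.ΓSpecIso (CommRingCat.of R)).inv r) = r
    exact Iso.inv_hom_id_apply _ _
  have hπ0 : scal G π ≠ 0 := fun h => hπ.ne_zero (by rw [← hε π, h, map_zero])
  haveI : IsNoetherianRing A := by
    letI : Algebra R A := (scal G).toAlgebra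
    haveI : Algebra.FiniteType R A := by
      rw [← RingHom.finiteType_algebraMap]
      exact RingHom.FiniteType.comp ((HasRingHomProperty.iff_of_isAffine (P := @LocallyOfFiniteType)).1 inferInstance)
        (RingHom.FiniteType.of_surjective _ (ConcreteCategory.bijective_of_isIso (Scheme.ΓSpecIso (CommRingCat.of R)).inv).2)
    exact Algebra.FiniteType.isNoetherianRing R A
  -- a primitive element not divisible by π
  obtain ⟨r₀, a₀, hr₀, ha₀⟩ := exists_scal_mul (K := K) G x
  have hbd : ∃ m, ¬ scal G π ^ m ∣ a₀ := by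
    by_contra hc
    push Not at hc
    have h1 := Ideal.iInf_pow_eq_bot_of_isDomain (R := A) (Ideal.span {scal G π}) (fun h => hπ.not_isUnit
      (hε π ▸ (Ideal.span_singleton_eq_top.1 h).map ε))
    have h2 : a₀ ∈ ⨅ i : ℕ, Ideal.span {scal G π} ^ i := Ideal.mem_iInf.2 fun i => by
      rw [Ideal.span_singleton_pow]; exact Ideal.mem_span_singleton.2 (hc i)
    rw [h1, Submodule.mem_bot] at h2
    rw [h2, map_zero] at ha₀
    have h3 : ev x (Polynomial.C (algebraMap R K r₀) * Polynomial.X) = 0 := by
      rw [map_mul, show ev x Polynomial.X = x from Polynomial.eval₂_X _ _,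
        show ev x (Polynomial.C (algebraMap R K r₀)) = scal GK (algebraMap R K r₀) from Polynomial.eval₂_C _ _]
      exact ha₀.symm
    have h4 := hinjK (h3.trans (map_zero _).symm)
    simp [hr₀, IsFractionRing.to_map_eq_zero_iff] at h4
  classical
  obtain ⟨m, hm, hm'⟩ : ∃ m, scal G π ^ m ∣ a₀ ∧ ¬ scal G π ^ (m + 1) ∣ a₀ := by
    have hspec := Nat.find_spec hbd
    obtain ⟨m, hm⟩ : ∃ m, Nat.find hbd = m + 1 := Nat.exists_eq_succ_of_ne_zero (fun h0 => hspec (by simp [h0]))
    exact ⟨m, not_not.1 (Nat.find_min hbd (by omega)), hm ▸ hspec⟩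
  obtain ⟨y, hy⟩ := hm
  have hyπ : y ∉ Ideal.span {scal G π} := by
    rw [Ideal.mem_span_singleton]
    rintro ⟨w, rfl⟩
    exact hm' ⟨w, by rw [hy, pow_succ]; ring⟩
  have hπm : algebraMap R K π ^ m ≠ 0 := pow_ne_zero _ (by simp [hπ.ne_zero, IsFractionRing.to_map_eq_zero_iff])
  let c : K := algebraMap R K r₀ / algebraMap R K π ^ m
  have hc : c ≠ 0 := div_ne_zero (by simp [hr₀, IsFractionRing.to_map_eq_zero_iff]) hπm
  have hyK : res (K := K) G y = scal GK c * x := by
    have h := congrArg (res (K := K) G) hy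
    rw [map_mul, map_pow, res_scal, ha₀, ← map_pow] at h
    have hu : IsUnit (scal GK (algebraMap R K π ^ m)) := (isUnit_iff_ne_zero.2 hπm).map _
    refine hu.mul_left_cancel ?_
    rw [← h, ← _root_.mul_assoc, ← map_mul, mul_div_cancel₀ _ hπm]
  -- the homomorphism
  let φ : G ⟶ Red.Ga (Spec (CommRingCat.of R)) := GaPts.ptOfFn y
  have hadd : ∀ (T : Over (Spec (CommRingCat.of R))) (a b : T ⟶ G),
      (a * b).left.appTop y = a.left.appTop y + b.left.appTop y := by
    suffices h : (fst G G * snd G G).left.appTop y = (fst G G).left.appTop y + (snd G G).left.appTop y by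
      intro T a b
      have h' := congrArg (lift a b).left.appTop h
      simp only [map_add, ← CommRingCat.comp_apply, ← Scheme.Hom.comp_appTop, ← Over.comp_left, MonObj.comp_mul,
        lift_fst, lift_snd] at h'
      exact h'
    haveI : Flat (G ⊗ G).hom := inferInstanceAs (Flat (pullback.fst G.hom G.hom ≫ G.hom))
    refine res_injective (K := K) (G ⊗ G) ?_
    rw [map_add, res_map, res_map, res_map, hyK]
    have e1 : ∀ g : Red.bc et (G ⊗ G) ⟶ GK, g.left.appTop (scal GK c * x) = scal _ c * Red.gaFn (g ≫ e.hom) := by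
      intro g
      rw [map_mul, GaPts.gaFn_comp]
      exact congrArg (· * _) (RingHom.congr_fun (appTop_scal g) c)
    rw [e1, e1, e1, ← mul_add, ← GaPts.gaFn_mul, ← MonObj.mul_comp]
    congr 3
    exact map_mul ((Over.pullback et).homMonoidHom (X := G ⊗ G) (M := G)) _ _
  haveI hφ : IsMonHom φ := by
    refine Desc.isMonHom_of_points _ (fun U => ?_) (fun U a b => ?_)
    · refine GaPts.gaFn_injective ?_
      have h := hadd U 1 1
      rw [_root_.mul_one, eq_comm, add_eq_left] at h
      show Red.gaFn ((1 : U ⟶ G) ≫ φ) = Red.gaFn 1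
      rw [GaPts.gaFn_comp, GaPts.gaFn_ptOfFn, GaPts.gaFn_one, h]
    · refine GaPts.gaFn_injective ?_
      show Red.gaFn ((a * b) ≫ φ) = Red.gaFn ((a ≫ φ) * (b ≫ φ))
      rw [GaPts.gaFn_mul, GaPts.gaFn_comp, GaPts.gaFn_comp, GaPts.gaFn_comp, GaPts.gaFn_ptOfFn, hadd]
  -- values at geometric points of the special fibre vanish for no nonzero polynomial
  have hres : ∀ P : R[X], ev y P ∈ Ideal.span {scal G π} → ∀ i, π ∣ P.coeff i := by
    intro P hP
    by_contra hne
    push Not at hne
    obtain ⟨i, hi⟩ := hne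
    refine hyπ (mem_span_of_isNilpotent G hπ y fun Q hQ hπQ => ?_)
    let L := AlgebraicClosure (FractionRing (A ⧸ Q))
    let ψ : A →+* L := (algebraMap (FractionRing (A ⧸ Q)) L).comp ((algebraMap (A ⧸ Q) _).comp (Ideal.Quotient.mk Q))
    have hψ : ∀ a, ψ a = 0 ↔ a ∈ Q := fun a => by
      simp [ψ, ← Ideal.Quotient.eq_zero_iff_mem, IsFractionRing.to_map_eq_zero_iff]
    let ρ : R →+* L := ψ.comp (scal G)
    have hρ : RingHom.ker ρ = IsLocalRing.maximalIdeal R := by
      refine le_antisymm (IsLocalRing.le_maximalIdeal (RingHom.ker_ne_top ρ)) ?_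
      rw [hπ.maximalIdeal_eq, Ideal.span_singleton_le_iff_mem]
      exact (hψ _).2 hπQ
    haveI : CharZero L := by
      let f : IsLocalRing.ResidueField R →+* L := Ideal.Quotient.lift _ ρ hρ.ge
      exact charZero_of_injective_ringHom (RingHom.injective f)
    let T : Over (Spec (CommRingCat.of R)) := Over.mk (Spec.map (CommRingCat.ofHom ρ))
    let iT := Scheme.ΓSpecIso (CommRingCat.of L)
    let g : T ⟶ G := Over.homMk (Spec.map (CommRingCat.ofHom ψ) ≫ G.left.isoSpec.inv) (by
      show (Spec.map (CommRingCat.ofHom ψ) ≫ G.left.isoSpec.inv) ≫ G.hom = _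
      rw [Category.assoc, isoSpec_inv_hom, ← Spec.map_comp, ← CommRingCat.ofHom_comp]
      rfl)
    have hscal : ∀ r, iT.hom (scal T r) = ρ r := by
      intro r
      show iT.hom ((Spec.map (CommRingCat.ofHom ρ)).appTop ((Scheme.ΓSpecIso (CommRingCat.of R)).inv r)) = _
      exact ΓSpecIso_map_apply ρ _
    have hgy : iT.hom (g.left.appTop y) = ψ y := by
      show iT.hom ((Spec.map (CommRingCat.ofHom ψ) ≫ G.left.isoSpec.inv).appTop y) = _
      rw [Scheme.Hom.comp_appTop, isoSpec_inv_appTop', CommRingCat.comp_apply]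
      exact ΓSpecIso_map_apply ψ _
    -- the finitely many roots
    have hval : ∀ n : ℕ, iT.hom ((g ^ n).left.appTop y) = (n : L) * ψ y := by
      intro n
      induction n with
      | zero =>
        have h0 := hadd T 1 1
        rw [_root_.mul_one, eq_comm, add_eq_left] at h0
        simp [h0]
      | succ n ihn => rw [pow_succ, hadd, map_add, ihn, hgy, Nat.cast_succ, add_mul, _root_.one_mul]
    have hroot : ∀ n : ℕ, (P.map ρ).IsRoot ((n : L) * ψ y) := by
      intro n
      obtain ⟨w, hw⟩ := Ideal.mem_span_singleton.1 hP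
      have h := congrArg (fun a => iT.hom ((g ^ n).left.appTop a)) hw
      simp only [map_mul] at h
      rw [← RingHom.comp_apply, appTop_ev, ← RingHom.comp_apply (CommRingCat.Hom.hom (g ^ n).left.appTop) (scal G),
        appTop_scal, hscal, show ρ π = 0 from RingHom.mem_ker.1 (hρ ▸ hπ.maximalIdeal_eq ▸ Ideal.mem_span_singleton_self π),
        zero_mul] at h
      rw [Polynomial.IsRoot, ← h, ev, Polynomial.coe_eval₂RingHom, Polynomial.hom_eval₂, hval n,
        Polynomial.eval_map]
      congr 1
      exact (RingHom.ext hscal).symm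
    rw [← hψ]
    by_contra hyQ
    have hP0 : P.map ρ ≠ 0 := fun h => hi (by
      have h1 : ρ (P.coeff i) = 0 := by rw [← Polynomial.coeff_map, h, Polynomial.coeff_zero]
      rw [← RingHom.mem_ker, hρ, hπ.maximalIdeal_eq, Ideal.mem_span_singleton] at h1
      exact h1)
    exact hP0 (Polynomial.eq_zero_of_infinite_isRoot _ ((Set.infinite_range_of_injective
      (f := fun n : ℕ => (n : L) * ψ y) (fun a b hab => Nat.cast_injective (mul_right_cancel₀ hyQ hab))).mono
      (by rintro _ ⟨n, rfl⟩; exact hroot n)))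
  -- the functions
  have hevK : ∀ P : R[X], res (K := K) G (ev y P) =
      ev x ((P.map (algebraMap R K)).comp (Polynomial.C c * Polynomial.X)) := by
    intro P
    induction P using Polynomial.induction_on' with
    | add p q hp hq => rw [map_add, map_add, hp, hq, Polynomial.map_add, Polynomial.add_comp, map_add]
    | monomial n r =>
      simp [ev, ← Polynomial.C_mul_X_pow_eq_monomial, mul_pow]
      erw [map_mul, map_pow]
      rw [res_scal, hyK, Polynomial.eval₂_pow, Polynomial.eval₂_C, mul_pow]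
  have hinj : Function.Injective (ev y) := by
    rw [injective_iff_map_eq_zero]
    intro P hP
    have h := hevK P
    rw [hP, map_zero] at h
    have h2 := hinjK (h.symm.trans (map_zero _).symm)
    refine (Polynomial.map_eq_zero_iff (IsFractionRing.injective R K)).1 ?_
    refine (Polynomial.comp_C_mul_X_eq_zero_iff (mem_nonZeroDivisors_of_ne_zero hc)).1 h2
  have hsurj : Function.Surjective (ev y) := by
    suffices h : ∀ (n : ℕ) (a : A) (P : R[X]), scal G (π ^ n) * a = ev y P → ∃ Q, ev y Q = a by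
      intro a
      obtain ⟨q, hq⟩ := hsurjK (res (K := K) G a)
      obtain ⟨⟨b, hb⟩, hb'⟩ := IsLocalization.integerNormalization_map_to_map (nonZeroDivisors R)
        (q.comp (Polynomial.C c⁻¹ * Polynomial.X))
      obtain ⟨n, u, hu⟩ := IsDiscreteValuationRing.eq_unit_mul_pow_irreducible (nonZeroDivisors.ne_zero hb) hπ
      obtain ⟨Q, hQ⟩ := h n a (Polynomial.C (↑u⁻¹ : R) *
        IsLocalization.integerNormalization (nonZeroDivisors R) (q.comp (Polynomial.C c⁻¹ * Polynomial.X))) (by
          refine res_injective (K := K) G ?_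
          rw [map_mul, res_scal, ← hq, hevK, Polynomial.map_mul, hb', Polynomial.map_C, Algebra.smul_def,
            Polynomial.algebraMap_apply, Polynomial.mul_comp, Polynomial.mul_comp, Polynomial.C_comp,
            Polynomial.C_comp, Polynomial.comp_assoc, Polynomial.mul_comp, Polynomial.C_comp, Polynomial.X_comp,
            ← _root_.mul_assoc (Polynomial.C c⁻¹), ← Polynomial.C_mul, inv_mul_cancel₀ hc, Polynomial.C_1, _root_.one_mul,
            Polynomial.comp_X, ← _root_.mul_assoc, ← Polynomial.C_mul, ← map_mul]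
          simp only [hu, Submonoid.mk_smul, Units.inv_mul_cancel_left]
          rw [map_mul]
          simp [ev]
          rw [Polynomial.eval₂_pow, Polynomial.eval₂_C]
          erw [map_pow])
      exact ⟨Q, hQ⟩
    intro n
    induction n with
    | zero => exact fun a P h => ⟨P, by simpa using h.symm⟩
    | succ n ihn =>
      intro a P h
      have hd := hres P (Ideal.mem_span_singleton.2 ⟨scal G (π ^ n) * a, by rw [← h, pow_succ', map_mul, _root_.mul_assoc]⟩)
      obtain ⟨Q, hQ⟩ := (Polynomial.C_dvd_iff_dvd_coeff _ _).2 hd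
      refine ihn a Q (mul_left_cancel₀ hπ0 ?_)
      rw [← _root_.mul_assoc, ← map_mul, ← pow_succ', h, hQ, map_mul]
      simp [ev]
  -- the inverse
  let E := RingEquiv.ofBijective (ev y) ⟨hinj, hsurj⟩
  let Ga' := Red.Ga (Spec (CommRingCat.of R))
  let gen := Red.gaFn (𝟙 Ga')
  let θ : A →+* Γ(Ga'.left, ⊤) := (ev gen).comp E.symm.toRingHom
  have hθev : ∀ P, θ (ev y P) = ev gen P := fun P => congrArg (ev gen) (E.symm_apply_apply P)
  have hθs : θ.comp (scal G) = scal Ga' := by
    ext r
    have h := hθev (Polynomial.C r)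
    simpa [ev] using h
  let v : Ga' ⟶ G := Over.homMk (Ga'.left.toSpecΓ ≫ Spec.map (CommRingCat.ofHom θ) ≫ G.left.isoSpec.inv) (by
    show (_ ≫ _ ≫ G.left.isoSpec.inv) ≫ G.hom = _
    rw [Category.assoc, Category.assoc, isoSpec_inv_hom, ← Spec.map_comp, ← CommRingCat.ofHom_comp, hθs]
    exact toSpecΓ_scal Ga')
  have hv : ∀ a, v.left.appTop a = θ a := by
    intro a
    show (Ga'.left.toSpecΓ ≫ Spec.map (CommRingCat.ofHom θ) ≫ G.left.isoSpec.inv).appTop a = θ a
    rw [Scheme.Hom.comp_appTop, Scheme.Hom.comp_appTop, Scheme.toSpecΓ_appTop, isoSpec_inv_appTop']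
    simp only [Category.assoc, CommRingCat.comp_apply]
    exact ΓSpecIso_map_apply θ _
  have hvφ : v ≫ φ = 𝟙 Ga' := by
    refine GaPts.gaFn_injective ?_
    show Red.gaFn (v ≫ φ) = gen
    rw [GaPts.gaFn_comp, GaPts.gaFn_ptOfFn, hv]
    have h := hθev Polynomial.X
    simpa [ev] using h
  have hφv : φ ≫ v = 𝟙 G := by
    refine Over.OverMorphism.ext (ext_of_isAffine (CommRingCat.hom_ext (RingHom.ext fun a => ?_)))
    obtain ⟨P, rfl⟩ := hsurj a
    show (φ.left ≫ v.left).appTop (ev y P) = Scheme.Hom.appTop (𝟙 G.left) (ev y P)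
    rw [Scheme.Hom.comp_appTop, CommRingCat.comp_apply, hv, hθev, ← RingHom.comp_apply, appTop_ev, ← GaPts.gaFn_comp,
      Category.comp_id, GaPts.gaFn_ptOfFn]
    simp
  exact ⟨⟨φ, v, hφv, hvφ⟩, hφ⟩

end Groth.Agent.AddModel19
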