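import Groth.Agent.Lib.AddModel19.Basic
import Groth.Agent.Lib.SubSpec19.DVR
import Groth.Agent.Lib.GrpNeutral20.Smooth
import Groth.Agent.Lib.GrpNeutral20.Gen
import Groth.Agent.Lib.BiratPt18.Global
import Groth.Agent.Lib.NormalExt19.Basic
import Groth.Agent.Lib.AffineFin18.Basic
import Groth.Agent.Lib.GrpField.Component
import Groth.Agent.Lib.AttrBorel21.BorelDisc
import Groth.Agent.Lib.SpreadSub19.Basic
import Groth.Agent.Lib.AttrBorel21.AlmostSimple
import Mathlib.AlgebraicGeometry.Morphisms.IsIso

/-!
# The identity component of a smooth affine model of the additive group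
-/

set_option autoImplicit false
set_option linter.style.haveILetI false
set_option linter.unusedSectionVars false
set_option backward.isDefEq.respectTransparency false
set_option backward.isDefEq.respectTransparency.types false
universe u

open CategoryTheory CategoryTheory.Limits MonoidalCategory CartesianMonoidalCategory MonObj GrpObj AlgebraicGeometry
open TopologicalSpace Opposite
open scoped Polynomial

noncomputable section

namespace Groth.Agent.AddModel19

/-- The additive group is the affine line. -/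
theorem exists_iso_polynomial (R : Type u) [CommRing R] :
    Nonempty (Red.Ga (Spec (CommRingCat.of R)) ≅ Over.mk (Spec.map (CommRingCat.ofHom (Polynomial.C : R →+* R[X])))) := by
  let Gm' := Red.Ga (Spec (CommRingCat.of R))
  let v := Red.gaFn (𝟙 Gm')
  let T : Over (Spec (CommRingCat.of R)) := Over.mk (Spec.map (CommRingCat.ofHom (Polynomial.C : R →+* R[X])))
  let iT := Scheme.ΓSpecIso (CommRingCat.of R[X])
  let q : T ⟶ Gm' := GaPts.ptOfFn (iT.inv Polynomial.X)
  let f : Gm' ⟶ T := Over.homMk (Gm'.left.toSpecΓ ≫ Spec.map (CommRingCat.ofHom (ev v))) (by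
    show (Gm'.left.toSpecΓ ≫ Spec.map (CommRingCat.ofHom (ev v))) ≫ Spec.map (CommRingCat.ofHom Polynomial.C) = Gm'.hom
    rw [Category.assoc, ← Spec.map_comp, ← CommRingCat.ofHom_comp,
      show (ev v).comp Polynomial.C = scal Gm' from RingHom.ext fun r => Polynomial.eval₂_C _ _]
    exact toSpecΓ_scal Gm')
  have hf : ∀ p, f.left.appTop (iT.inv p) = ev v p := by
    intro p
    show (Gm'.left.toSpecΓ ≫ Spec.map (CommRingCat.ofHom (ev v))).appTop _ = _
    rw [Scheme.Hom.comp_appTop, Scheme.toSpecΓ_appTop, CommRingCat.comp_apply]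
    exact ΓSpecIso_map_apply _ _
  have hfq : f ≫ q = 𝟙 Gm' := by
    refine GaPts.gaFn_injective ?_
    show Red.gaFn (f ≫ q) = v
    rw [GaPts.gaFn_comp, GaPts.gaFn_ptOfFn, hf]
    exact Polynomial.eval₂_X _ _
  have hqf : q ≫ f = 𝟙 T := by
    haveI : IsAffine T.left := inferInstanceAs (IsAffine (Spec _))
    refine Over.OverMorphism.ext (ext_of_isAffine (CommRingCat.hom_ext (RingHom.ext fun a => ?_)))
    obtain ⟨p, rfl⟩ : ∃ p, iT.inv p = a := ⟨iT.hom a, Iso.hom_inv_id_apply _ _⟩
    show (q.left ≫ f.left).appTop (iT.inv p) = Scheme.Hom.appTop (𝟙 T.left) (iT.inv p)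
    rw [Scheme.Hom.comp_appTop, CommRingCat.comp_apply, hf, ← RingHom.comp_apply, appTop_ev, ← GaPts.gaFn_comp,
      Category.comp_id, GaPts.gaFn_ptOfFn]
    have hs : scal T = iT.inv.hom.comp Polynomial.C := RingHom.ext fun r => by
      show (Spec.map (CommRingCat.ofHom (Polynomial.C : R →+* R[X]))).appTop
        ((Scheme.ΓSpecIso (CommRingCat.of R)).inv r) = iT.inv (Polynomial.C r)
      exact (ConcreteCategory.congr_hom (Scheme.ΓSpecIso_inv_naturality (CommRingCat.ofHom (Polynomial.C : R →+* R[X]))) r).symm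
    have he : ev (T := T) (iT.inv Polynomial.X) = iT.inv.hom := by
      refine Polynomial.ringHom_ext (fun r => ?_) ?_
      · simp only [ev, Polynomial.coe_eval₂RingHom, Polynomial.eval₂_C]
        exact RingHom.congr_fun hs r
      · exact Polynomial.eval₂_X _ _
    rw [he]
    simp
    rfl
  exact ⟨⟨f, q, hfq, hqf⟩⟩

theorem dim_Ga (k : Type u) [Field k] :
    topologicalKrullDim (Red.Ga (Spec (CommRingCat.of k))).left = 1 := by
  obtain ⟨e⟩ := exists_iso_polynomial k
  haveI : IsIso e.hom.left := inferInstanceAs (IsIso ((Over.forget _).map e.hom))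
  refine ((Scheme.homeoOfIso (asIso e.hom.left)).isHomeomorph.topologicalKrullDim_eq _).trans ?_
  show topologicalKrullDim (PrimeSpectrum k[X]) = 1
  rw [PrimeSpectrum.topologicalKrullDim_eq_ringKrullDim]
  exact Polynomial.ringKrullDim_of_isNoetherianRing.trans (by rw [ringKrullDim_eq_zero_of_field]; rfl)

/-- In a noetherian space of dimension at most one with irreducible whole, sets of closed points are discrete. -/
theorem discrete_of_closed_points {α : Type*} [TopologicalSpace α] [NoetherianSpace α] (F : Set α)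
    (h : ∀ x ∈ F, ∀ y ∈ F, x ⤳ y → x = y) [QuasiSober F] : DiscreteTopology F := by
  haveI : T1Space F := t1Space_iff_specializes_imp_eq.2 fun x y hxy =>
    Subtype.ext (h x x.2 y y.2 (hxy.map continuous_subtype_val))
  haveI : NoetherianSpace F := Topology.IsInducing.subtypeVal.noetherianSpace
  haveI : Finite F := by
    have hfin := NoetherianSpace.finite_irreducibleComponents (α := F)
    have hs : (irreducibleComponents F).Finite := hfin
    refine Set.finite_univ_iff.1 ?_
    rw [← sUnion_irreducibleComponents (X := F)]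
    refine Set.Finite.sUnion hs fun C hC => Set.Subsingleton.finite ?_
    intro a ha b hb
    obtain ⟨ξ, hξ⟩ := QuasiSober.sober hC.1 (isClosed_of_mem_irreducibleComponents C hC)
    exact ((hξ.specializes ha).eq).symm.trans (hξ.specializes hb).eq
  infer_instance

variable {R : Type u} [CommRing R] [IsDomain R] [IsDiscreteValuationRing R]
  {K : Type u} [Field K] [Algebra R K] [IsFractionRing R K]

/-- Functions on a flat scheme vanishing on the special fibre are divisible when that fibre is reduced. -/
theorem exists_div (H : Over (Spec (CommRingCat.of R))) [Smooth H.hom] {π : R} (hπ : Irreducible π)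
    (y : Γ(H.left, ⊤)) (hy : H.left.basicOpen y ≤ H.left.basicOpen (scal H π)) : ∃ w, y = scal H π * w := by
  classical
  let f := scal H π
  let 𝒰 := fun U : H.left.affineOpens => (U : H.left.Opens)
  let rs : ∀ U : H.left.Opens, Γ(H.left, ⊤) →+* Γ(H.left, U) := fun U => (H.left.presheaf.map (homOfLE le_top).op).hom
  have hloc : ∀ U : H.left.affineOpens, ∃ w : Γ(H.left, U), rs U y = rs U f * w := by
    intro ⟨U, hU⟩
    haveI : IsAffine U.toScheme := hU
    let HU : Over (Spec (CommRingCat.of R)) := Over.mk (U.ι ≫ H.hom)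
    haveI : Smooth HU.hom := inferInstanceAs (Smooth (U.ι ≫ H.hom))
    haveI : IsAffine HU.left := ‹IsAffine U.toScheme›
    let A := Γ(HU.left, ⊤)
    letI : Algebra R A := (scal HU).toAlgebra
    haveI : Algebra.Smooth R A := by
      rw [← RingHom.smooth_algebraMap]
      exact RingHom.Smooth.comp (RingHom.Smooth.of_bijective
        (ConcreteCategory.bijective_of_isIso (Scheme.ΓSpecIso (CommRingCat.of R)).inv))
        ((HasRingHomProperty.iff_of_isAffine (P := @Smooth)).1 ‹Smooth HU.hom›)
    let P := IsLocalRing.maximalIdeal R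
    haveI : P.IsMaximal := IsLocalRing.maximalIdeal.isMaximal R
    letI : Field (R ⧸ P) := Ideal.Quotient.field P
    haveI : Algebra.Smooth (R ⧸ P) (TensorProduct R (R ⧸ P) A) := inferInstance
    haveI := SmoothRed.isReduced_of_smooth_field (R ⧸ P) (TensorProduct R (R ⧸ P) A)
    let eP := ((Algebra.TensorProduct.quotIdealMapEquivTensorQuot A P).toRingEquiv.trans
      (Algebra.TensorProduct.comm R A (R ⧸ P)).toRingEquiv)
    haveI : IsReduced (A ⧸ P.map (algebraMap R A)) := isReduced_of_injective eP eP.injective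
    let yU : A := U.ι.appTop y
    have hscal : U.ι.appTop f = scal HU π :=
      RingHom.congr_fun (appTop_scal (Over.homMk U.ι rfl : HU ⟶ H)) π
    have hP : P.map (algebraMap R A) = Ideal.span {scal HU π} := by
      rw [show P = Ideal.span {π} from hπ.maximalIdeal_eq, Ideal.map_span, Set.image_singleton]; rfl
    have hmem : yU ∈ Ideal.span {scal HU π} := by
      rw [← hP, ← Ideal.Quotient.eq_zero_iff_mem]
      refine IsNilpotent.eq_zero ((nilpotent_iff_mem_prime).2 fun J hJ => ?_)
      let Q := J.comap (Ideal.Quotient.mk (P.map (algebraMap R A)))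
      haveI : Q.IsPrime := inferInstance
      show yU ∈ Q
      by_contra hQ
      have hπQ : scal HU π ∈ Q := by
        rw [Ideal.mem_comap, Ideal.Quotient.eq_zero_iff_mem.2 (hP ▸ Ideal.mem_span_singleton_self _)]
        exact zero_mem _
      let z : U.toScheme := U.toScheme.isoSpec.inv (⟨Q, inferInstance⟩ : PrimeSpectrum A)
      have hbo : ∀ a : Γ(H.left, ⊤), (U.ι z ∈ H.left.basicOpen a ↔ (U.ι.appTop a) ∉ Q) := fun a => by
        have e1 : (U.ι z ∈ H.left.basicOpen a) ↔ z ∈ U.toScheme.basicOpen (U.ι.appTop a) := by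
          rw [← Scheme.preimage_basicOpen_top]; rfl
        rw [e1]
        have e2 : U.toScheme.isoSpec.inv ⁻¹ᵁ U.toScheme.basicOpen (U.ι.appTop a) =
            PrimeSpectrum.basicOpen (U.ι.appTop a : A) := by
          rw [Scheme.preimage_basicOpen_top, isoSpec_inv_appTop']
          exact basicOpen_eq_of_affine _
        show (⟨Q, inferInstance⟩ : PrimeSpectrum A) ∈ U.toScheme.isoSpec.inv ⁻¹ᵁ U.toScheme.basicOpen (U.ι.appTop a) ↔ _
        rw [e2]
        rfl
      exact ((hbo f).1 (hy ((hbo y).2 hQ))) (hscal ▸ hπQ)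
    obtain ⟨w, hw⟩ := Ideal.mem_span_singleton.1 hmem
    refine ⟨U.topIso.hom w, ?_⟩
    have h := congrArg U.topIso.hom hw
    rw [map_mul, ← hscal] at h
    have e3 : ∀ a, U.topIso.hom (U.ι.appTop a) = rs U a := fun a => by
      rw [← CommRingCat.comp_apply]
      congr 2
      simp [Scheme.Opens.topIso, rs]
      rw [← Functor.map_comp]
      rfl
    rwa [e3, e3] at h
  choose w hw using hloc
  -- torsion freeness
  have hreg : ∀ (V : H.left.Opens) (a b : Γ(H.left, V)), rs V f * a = rs V f * b → a = b := by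
    intro V a b h
    haveI : Smooth (V.ι ≫ H.hom) := inferInstance
    let HV : Over (Spec (CommRingCat.of R)) := Over.mk (V.ι ≫ H.hom)
    haveI : Flat HV.hom := inferInstanceAs (Flat (V.ι ≫ H.hom))
    have e3 : ∀ a, V.topIso.hom (V.ι.appTop a) = rs V a := fun a => by
      rw [← CommRingCat.comp_apply]
      congr 2
      simp [Scheme.Opens.topIso, rs]
      rw [← Functor.map_comp]
      rfl
    refine (ConcreteCategory.bijective_of_isIso V.topIso.inv).1 ?_
    have h' := congrArg V.topIso.inv h
    rw [map_mul, map_mul, ← e3, Iso.hom_inv_id_apply] at h'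
    rw [show V.ι.appTop f = scal HV π from RingHom.congr_fun (appTop_scal (Over.homMk V.ι rfl : HV ⟶ H)) π] at h'
    refine res_injective (K := FractionRing R) HV ?_
    have h2 := congrArg (res (K := FractionRing R) HV) h'
    erw [map_mul, map_mul, res_scal] at h2
    exact ((isUnit_iff_ne_zero.2 (by simp [hπ.ne_zero, IsFractionRing.to_map_eq_zero_iff])).map _).mul_left_cancel h2
  have hcompat : TopCat.Presheaf.IsCompatible H.left.presheaf 𝒰 w := by
    intro i j
    refine hreg _ _ _ ?_
    have hrs : ∀ (U V : H.left.Opens) (hVU : V ≤ U) a, H.left.presheaf.map (homOfLE hVU).op (rs U a) = rs V a := by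
      intro U V hVU a
      show (H.left.presheaf.map (homOfLE le_top).op ≫ H.left.presheaf.map (homOfLE hVU).op) a = _
      rw [← H.left.presheaf.map_comp]
      rfl
    have hi := congrArg (H.left.presheaf.map (TopologicalSpace.Opens.infLELeft (𝒰 i) (𝒰 j)).op) (hw i)
    have hj := congrArg (H.left.presheaf.map (TopologicalSpace.Opens.infLERight (𝒰 i) (𝒰 j)).op) (hw j)
    rw [map_mul] at hi hj
    erw [hrs, hrs] at hi hj
    exact hi.symm.trans hj
  obtain ⟨g, hg, -⟩ := H.left.sheaf.existsUnique_gluing' 𝒰 ⊤ (fun U => homOfLE le_top)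
    (fun x _ => by
      obtain ⟨U, hU, hxU, -⟩ := exists_isAffineOpen_mem_and_subset (X := H.left) (x := x) (U := ⊤) trivial
      exact Opens.mem_iSup.2 ⟨⟨U, hU⟩, hxU⟩) w hcompat
  let g' : Γ(H.left, ⊤) := g
  refine ⟨g', ?_⟩
  refine H.left.sheaf.eq_of_locally_eq' 𝒰 ⊤ (fun U => homOfLE le_top) (fun x _ => by
    obtain ⟨U, hU, hxU, -⟩ := exists_isAffineOpen_mem_and_subset (X := H.left) (x := x) (U := ⊤) trivial
    exact Opens.mem_iSup.2 ⟨⟨U, hU⟩, hxU⟩) _ _ fun U => ?_
  show rs U y = rs U (f * g')
  rw [map_mul, hw U]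
  exact congrArg (_ * ·) (hg U).symm

variable (G : Over (Spec (CommRingCat.of R))) [GrpObj G] [IsAffine G.left] [Flat G.hom] [Smooth G.hom]

/-- The identity component of a smooth affine model of the additive group is the additive group. -/
theorem exists_open_Ga [IsAlgClosed (IsLocalRing.ResidueField R)]
    (e : Red.bc (Spec.map (CommRingCat.ofHom (algebraMap R K))) G ≅ Red.Ga (Spec (CommRingCat.of K))) [IsMonHom e.hom] :
    ∃ j : Red.Ga (Spec (CommRingCat.of R)) ⟶ G, IsMonHom j ∧ IsOpenImmersion j.left := by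
  classical
  let et := Spec.map (CommRingCat.ofHom (algebraMap R K))
  let c := Spec.map (CommRingCat.ofHom (IsLocalRing.residue R))
  let κ := IsLocalRing.ResidueField R
  let GK := Red.bc et G
  obtain ⟨π, hπ⟩ := IsDiscreteValuationRing.exists_irreducible R
  -- G is integral
  let x : Γ(GK.left, ⊤) := Red.gaFn e.hom
  obtain ⟨eP⟩ := exists_iso_polynomial K
  haveI : IsIntegral (Red.Ga (Spec (CommRingCat.of K))).left := by
    haveI : IsIso eP.hom.left := inferInstanceAs (IsIso ((Over.forget _).map eP.hom))
    haveI : IsIntegral (Over.mk (Spec.map (CommRingCat.ofHom (Polynomial.C : K →+* K[X])))).left :=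
      inferInstanceAs (IsIntegral (Spec (CommRingCat.of K[X])))
    haveI : Nonempty (Red.Ga (Spec (CommRingCat.of K))).left := ⟨η[Red.Ga (Spec (CommRingCat.of K))].left (IsLocalRing.closedPoint K)⟩
    exact isIntegral_of_isOpenImmersion eP.hom.left
  haveI : IsIntegral GK.left := by
    haveI : IsIso e.hom.left := inferInstanceAs (IsIso ((Over.forget _).map e.hom))
    haveI : Nonempty GK.left := ⟨η[GK].left (IsLocalRing.closedPoint K)⟩
    exact isIntegral_of_isOpenImmersion e.hom.left
  haveI : IsDomain Γ(G.left, ⊤) := Function.Injective.isDomain (res (K := K) G) (res_injective G)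
  haveI : IsIntegral G.left := by
    haveI : Nonempty G.left := ⟨η[G].left (IsLocalRing.closedPoint R)⟩
    haveI : IsIntegral (Spec Γ(G.left, ⊤)) := inferInstance
    exact isIntegral_of_isOpenImmersion G.left.isoSpec.hom
  -- the open identity component
  haveI : Smooth ((⊤ : G.left.Opens).ι ≫ G.hom) := inferInstance
  obtain ⟨-, H, gH, i, hi1, hi2, hrange, hHs, hHq⟩ :=
    GrpNeutral20.exists_openSubgroup G ⊤ (fun _ => trivial)
  haveI := hi1; haveI := hi2; haveI := hHs; haveI := hHq
  haveI : Nonempty H.left := ⟨η[H].left (IsLocalRing.closedPoint R)⟩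
  haveI : IsIntegral H.left := isIntegral_of_isOpenImmersion i.left
  haveI : IsSeparated H.hom := by
    haveI : IsAffineHom G.hom := isAffineHom_of_isAffine _
    rw [← Over.w i]; infer_instance
  haveI : Flat H.hom := inferInstance
  let HK := Red.bc et H
  let Hk := Red.bc c H
  haveI : IsPreimmersion et := IsPreimmersion.of_isLocalization (nonZeroDivisors R)
  haveI : IsClosedImmersion c := IsClosedImmersion.spec_of_surjective _ IsLocalRing.residue_surjective
  let iK : HK ⟶ GK := (Over.pullback et).map i
  have hiK : iK.left ≫ pullback.fst G.hom et = pullback.fst H.hom et ≫ i.left := pullback.lift_fst _ _ _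
  -- fibres of the identity component
  have hpt : ∀ s : Spec (CommRingCat.of R), Set.range i.left ∩ G.hom ⁻¹' {s} =
      connectedComponentIn (G.hom ⁻¹' {s}) (η[G].left s) := by
    intro s
    rw [hrange]
    ext z
    constructor
    · rintro ⟨hz, hzs⟩
      obtain ⟨p, hp⟩ := Set.mem_iUnion.1 hz
      have h2 : G.hom z = (𝟙_ (Over (Spec (CommRingCat.of R)))).hom p := connectedComponentIn_subset (G.hom ⁻¹' _) _ hp
      rw [Set.mem_preimage, Set.mem_singleton_iff] at hzs
      obtain rfl : s = p := hzs.symm.trans h2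
      exact hp
    · intro hz
      exact ⟨Set.mem_iUnion.2 ⟨s, hz⟩, connectedComponentIn_subset _ _ hz⟩
  haveI : IsIso iK := by
    haveI : IsOpenImmersion iK.left := by
      have h : IsPullback (pullback.fst H.hom et) iK.left i.left (pullback.fst G.hom et) := by
        refine IsPullback.of_bot (v₂₁ := GK.hom) (v₂₂ := G.hom) (h₃₁ := et) ?_ ?_ (IsPullback.of_hasPullback G.hom et)
        · rw [Over.w i, Over.w iK]
          exact IsPullback.of_hasPullback H.hom et
        · exact hiK.symm
      exact MorphismProperty.of_isPullback (P := @IsOpenImmersion) h ‹_›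
    haveI : Surjective iK.left := ⟨fun z => by
      let s₀ : Spec (CommRingCat.of R) := et (IsLocalRing.closedPoint K)
      let ρ := pullback.fst G.hom et
      have hrg : Set.range ρ = G.hom ⁻¹' {s₀} := by
        refine (Scheme.Pullback.range_fst G.hom et).trans (congrArg _ ?_)
        refine Set.Subset.antisymm ?_ (Set.singleton_subset_iff.2 ⟨_, rfl⟩)
        rintro _ ⟨w, rfl⟩
        rw [Set.mem_singleton_iff, Subsingleton.elim (α := PrimeSpectrum K) w (IsLocalRing.closedPoint K)]
      haveI : ConnectedSpace (Limits.pullback G.hom et : Scheme.{u}) :=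
        (inferInstance : ConnectedSpace GK.left)
      have hcon : _root_.IsPreconnected (G.hom ⁻¹' {s₀}) := hrg ▸ (isConnected_range ρ.continuous).isPreconnected
      have hz : ρ z ∈ Set.range i.left ∩ G.hom ⁻¹' {s₀} := by
        rw [hpt, IsPreconnected.connectedComponentIn hcon (GrpNeutral20.unit_over G s₀)]
        exact hrg ▸ ⟨z, rfl⟩
      obtain ⟨w, hw⟩ := hz.1
      obtain ⟨w', hw'⟩ : w ∈ Set.range (pullback.fst H.hom et) := by
        rw [Scheme.Pullback.range_fst]
        refine ⟨IsLocalRing.closedPoint K, ?_⟩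
        rw [← Over.w i, Scheme.Hom.comp_apply, hw]
        exact hz.2.symm
      refine ⟨w', ρ.isEmbedding.injective ?_⟩
      show (iK.left ≫ pullback.fst G.hom et) w' = _
      rw [hiK, Scheme.Hom.comp_apply]
      exact (congrArg i.left hw').trans hw⟩
    haveI : IsIso iK.left := (isIso_iff_isOpenImmersion_and_surjective _).2 ⟨inferInstance, inferInstance⟩
    haveI : IsIso ((Over.forget _).map iK) := ‹IsIso iK.left›
    exact isIso_of_reflects_iso iK (Over.forget _)
  let eH : HK ⟶ Red.Ga (Spec (CommRingCat.of K)) := iK ≫ e.hom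
  haveI : IsMonHom eH := inferInstanceAs (IsMonHom (iK ≫ e.hom))
  haveI : IsIso eH := inferInstanceAs (IsIso (iK ≫ e.hom))
  let xH : Γ(HK.left, ⊤) := Red.gaFn eH
  -- a maximal coordinate
  obtain ⟨r₀, a, hr₀, ha⟩ := exists_scal_mul (K := K) G x
  let a₀ : Γ(H.left, ⊤) := i.left.appTop a
  have ha₀ : res (K := K) H a₀ = scal HK (algebraMap R K r₀) * xH := by
    show res (K := K) H (i.left.appTop a) = _
    rw [res_map, ha, map_mul]
    show _ = _ * Red.gaFn (iK ≫ e.hom)
    rw [GaPts.gaFn_comp]
    exact congrArg (· * _) (RingHom.congr_fun (appTop_scal iK) _)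
  have hxH : scal HK (algebraMap R K r₀) * xH ≠ 0 := by
    intro h0
    have hu : IsUnit (scal HK (algebraMap R K r₀)) :=
      (isUnit_iff_ne_zero.2 (by simp [hr₀, IsFractionRing.to_map_eq_zero_iff])).map _
    have hx0 : xH = 0 := hu.mul_right_eq_zero.1 h0
    let g : 𝟙_ (Over (Spec (CommRingCat.of K))) ⟶ HK := GaPts.ptOfFn 1 ≫ inv eH
    have h1 := congrArg g.left.appTop hx0
    rw [← GaPts.gaFn_comp, Category.assoc, IsIso.inv_hom_id, Category.comp_id, GaPts.gaFn_ptOfFn, map_zero] at h1
    exact one_ne_zero ((map_one (Scheme.ΓSpecIso (CommRingCat.of K)).hom.hom).symm.trans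
      ((congrArg (Scheme.ΓSpecIso (CommRingCat.of K)).hom h1).trans (map_zero _)))
  let e₀ : H.left := η[H].left (IsLocalRing.closedPoint R)
  have he₀ : e₀ ∉ H.left.basicOpen (scal H π) := by
    intro h
    have h1 : IsLocalRing.closedPoint R ∈ Scheme.basicOpen (Spec (CommRingCat.of R)) (η[H].left.appTop (scal H π)) := by
      have h' : IsLocalRing.closedPoint R ∈ η[H].left ⁻¹ᵁ H.left.basicOpen (scal H π) := h
      rw [Scheme.preimage_basicOpen_top] at h'
      exact h'
    rw [show η[H].left.appTop (scal H π) = scal (𝟙_ (Over (Spec (CommRingCat.of R)))) π from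
      RingHom.congr_fun (appTop_scal η[H]) π] at h1
    have hs : scal (𝟙_ (Over (Spec (CommRingCat.of R)))) π = (Scheme.ΓSpecIso (CommRingCat.of R)).inv π := by
      show Scheme.Hom.appTop (𝟙 (Spec (CommRingCat.of R))) ((Scheme.ΓSpecIso (CommRingCat.of R)).inv π) = _
      simp
    rw [hs, basicOpen_eq_of_affine] at h1
    exact h1 (show π ∈ IsLocalRing.maximalIdeal R by rw [hπ.maximalIdeal_eq]; exact Ideal.mem_span_singleton_self π)
  have hbd : ∃ m, ¬ scal H π ^ m ∣ a₀ := by
    by_contra hc
    push Not at hc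
    haveI : IsLocallyNoetherian H.left := LocallyOfFiniteType.isLocallyNoetherian H.hom
    let g := (H.left.presheaf.germ ⊤ e₀ trivial).hom
    have h1 := Ideal.iInf_pow_eq_bot_of_isLocalRing (Ideal.span {g (scal H π)}) (fun ht =>
      he₀ ((Scheme.mem_basicOpen H.left (scal H π) e₀ trivial).2 (Ideal.span_singleton_eq_top.1 ht)))
    have h2 : g a₀ ∈ ⨅ n : ℕ, Ideal.span {g (scal H π)} ^ n := Ideal.mem_iInf.2 fun n => by
      rw [Ideal.span_singleton_pow, Ideal.mem_span_singleton, ← map_pow]
      exact map_dvd g (hc n)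
    rw [h1, Submodule.mem_bot] at h2
    have h3 : a₀ = 0 := germ_injective_of_isIntegral H.left (U := ⊤) e₀ trivial (h2.trans (map_zero _).symm)
    rw [h3, map_zero] at ha₀
    exact hxH ha₀.symm
  obtain ⟨m, hm, hm'⟩ : ∃ m, scal H π ^ m ∣ a₀ ∧ ¬ scal H π ^ (m + 1) ∣ a₀ := by
    have hspec := Nat.find_spec hbd
    obtain ⟨m, hm⟩ : ∃ m, Nat.find hbd = m + 1 := Nat.exists_eq_succ_of_ne_zero (fun h0 => hspec (by simp [h0]))
    exact ⟨m, not_not.1 (Nat.find_min hbd (by omega)), hm ▸ hspec⟩
  obtain ⟨y, hy⟩ := hm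
  have hπm : algebraMap R K π ^ m ≠ 0 := pow_ne_zero _ (by simp [hπ.ne_zero, IsFractionRing.to_map_eq_zero_iff])
  let cf : K := algebraMap R K r₀ / algebraMap R K π ^ m
  have hcf : cf ≠ 0 := div_ne_zero (by simp [hr₀, IsFractionRing.to_map_eq_zero_iff]) hπm
  have hyK : res (K := K) H y = scal HK cf * xH := by
    have h := congrArg (res (K := K) H) hy
    rw [map_mul, map_pow, res_scal, ha₀, ← map_pow] at h
    have hu : IsUnit (scal HK (algebraMap R K π ^ m)) := (isUnit_iff_ne_zero.2 hπm).map _
    refine hu.mul_left_cancel ?_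
    rw [← h, ← _root_.mul_assoc, ← map_mul, mul_div_cancel₀ _ hπm]
  have hnd : ¬ H.left.basicOpen y ≤ H.left.basicOpen (scal H π) := fun h => by
    obtain ⟨w, rfl⟩ := exists_div H hπ y h
    exact hm' ⟨w, by rw [hy, pow_succ]; ring⟩
  -- the homomorphism
  let φ : H ⟶ Red.Ga (Spec (CommRingCat.of R)) := GaPts.ptOfFn y
  let φK : HK ⟶ Red.Ga (Spec (CommRingCat.of K)) := GaPts.ptOfFn (scal HK cf * xH)
  have hadd : ∀ (T : Over (Spec (CommRingCat.of R))) (a b : T ⟶ H),
      (a * b).left.appTop y = a.left.appTop y + b.left.appTop y := by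
    suffices h : (fst H H * snd H H).left.appTop y = (fst H H).left.appTop y + (snd H H).left.appTop y by
      intro T a b
      have h' := congrArg (lift a b).left.appTop h
      simp only [map_add, ← CommRingCat.comp_apply, ← Scheme.Hom.comp_appTop, ← Over.comp_left, MonObj.comp_mul,
        lift_fst, lift_snd] at h'
      exact h'
    haveI : Flat (H ⊗ H).hom := inferInstanceAs (Flat (pullback.fst H.hom H.hom ≫ H.hom))
    refine res_injective (K := K) (H ⊗ H) ?_
    rw [map_add, res_map, res_map, res_map, hyK]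
    have e1 : ∀ g : Red.bc et (H ⊗ H) ⟶ HK, g.left.appTop (scal HK cf * xH) = scal _ cf * Red.gaFn (g ≫ eH) := by
      intro g
      rw [map_mul, GaPts.gaFn_comp]
      exact congrArg (· * _) (RingHom.congr_fun (appTop_scal g) cf)
    rw [e1, e1, e1, ← mul_add, ← GaPts.gaFn_mul, ← MonObj.mul_comp]
    congr 3
    exact map_mul ((Over.pullback et).homMonoidHom (X := H ⊗ H) (M := H)) _ _
  haveI hφ : IsMonHom φ := by
    refine Desc.isMonHom_of_points _ (fun U => ?_) (fun U a b => ?_)
    · refine GaPts.gaFn_injective ?_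
      have h := hadd U 1 1
      rw [_root_.mul_one, eq_comm, add_eq_left] at h
      show Red.gaFn ((1 : U ⟶ H) ≫ φ) = Red.gaFn 1
      rw [GaPts.gaFn_comp, GaPts.gaFn_ptOfFn, GaPts.gaFn_one, h]
    · refine GaPts.gaFn_injective ?_
      show Red.gaFn ((a * b) ≫ φ) = Red.gaFn ((a ≫ φ) * (b ≫ φ))
      rw [GaPts.gaFn_mul, GaPts.gaFn_comp, GaPts.gaFn_comp, GaPts.gaFn_comp, GaPts.gaFn_ptOfFn, hadd]
  -- the generic fibre of the homomorphism
  let GaR := Red.Ga (Spec (CommRingCat.of R))
  let q := Limits.IsTerminal.from specULiftZIsTerminal (Spec (CommRingCat.of R))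
  let bK := SpreadSub19.bcComp q et (c := Limits.IsTerminal.from specULiftZIsTerminal (Spec (CommRingCat.of K)))
    (Limits.IsTerminal.hom_ext specULiftZIsTerminal _ _) Red.GaZ
  haveI : IsIso bK.hom.left := inferInstanceAs (IsIso ((Over.forget _).map bK.hom))
  let ψK := (Over.pullback et).map φ
  have hψK : ψK ≫ bK.hom = φK := by
    refine GaPts.gaFn_injective ?_
    show Red.gaFn (ψK ≫ bK.hom) = Red.gaFn φK
    rw [GaPts.gaFn_ptOfFn, ← hyK]
    show ((ψK ≫ bK.hom).left ≫ pullback.fst _ _).appTop _ = _
    rw [Over.comp_left, Category.assoc]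
    rw [SpreadSub19.bcComp_fst, ← Category.assoc,
      show ψK.left ≫ pullback.fst GaR.hom et = pullback.fst H.hom et ≫ φ.left from pullback.lift_fst _ _ _,
      Category.assoc, GmPts.appTop_comp_apply]
    exact congrArg _ (GaPts.gaFn_ptOfFn (S := Spec (CommRingCat.of R)) (T := H) y)
  haveI : IsIso φK := by
    let mu : Red.Ga (Spec (CommRingCat.of K)) ⟶ Red.Ga (Spec (CommRingCat.of K)) :=
      GaPts.ptOfFn (scal _ cf * Red.gaFn (𝟙 _))
    let mu' : Red.Ga (Spec (CommRingCat.of K)) ⟶ Red.Ga (Spec (CommRingCat.of K)) :=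
      GaPts.ptOfFn (scal _ cf⁻¹ * Red.gaFn (𝟙 _))
    have hcomp : ∀ (T : Over (Spec (CommRingCat.of K))) (g : T ⟶ Red.Ga (Spec (CommRingCat.of K))) (r : K),
        Red.gaFn (g ≫ GaPts.ptOfFn (scal _ r * Red.gaFn (𝟙 (Red.Ga (Spec (CommRingCat.of K)))))) = scal T r * Red.gaFn g := by
      intro T g r
      rw [GaPts.gaFn_comp, GaPts.gaFn_ptOfFn, map_mul, ← GaPts.gaFn_comp, Category.comp_id]
      exact congrArg (· * _) (RingHom.congr_fun (appTop_scal g) r)
    have hmu : IsIso mu := ⟨mu', GaPts.gaFn_injective (by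
        show Red.gaFn (mu ≫ mu') = Red.gaFn (𝟙 _)
        rw [hcomp, GaPts.gaFn_ptOfFn, ← _root_.mul_assoc, ← map_mul, inv_mul_cancel₀ hcf, map_one, _root_.one_mul]),
      GaPts.gaFn_injective (by
        show Red.gaFn (mu' ≫ mu) = Red.gaFn (𝟙 _)
        rw [hcomp, GaPts.gaFn_ptOfFn, ← _root_.mul_assoc, ← map_mul, mul_inv_cancel₀ hcf, map_one, _root_.one_mul])⟩
    have he : φK = eH ≫ mu := GaPts.gaFn_injective (by
      show Red.gaFn φK = Red.gaFn (eH ≫ mu)
      rw [hcomp, GaPts.gaFn_ptOfFn])
    rw [he]
    infer_instance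
  haveI : IsIso ψK := by
    haveI : IsIso (ψK ≫ bK.hom) := hψK.symm ▸ ‹IsIso φK›
    exact IsIso.of_isIso_comp_right ψK bK.hom
  haveI : IsIso ψK.left := inferInstanceAs (IsIso ((Over.forget _).map ψK))
  -- the special fibre
  let ψ := (Over.pullback c).map φ
  let bk := SpreadSub19.bcComp q c (c := Limits.IsTerminal.from specULiftZIsTerminal (Spec (CommRingCat.of κ)))
    (Limits.IsTerminal.hom_ext specULiftZIsTerminal _ _) Red.GaZ
  let Gak := Red.bc c GaR
  haveI : LocallyOfFiniteType Hk.hom := inferInstanceAs (LocallyOfFiniteType (pullback.snd H.hom c))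
  haveI : QuasiCompact Hk.hom := inferInstanceAs (QuasiCompact (pullback.snd H.hom c))
  haveI : ConnectedSpace Gak.left := by
    haveI := (AttrBorel21.smooth_affine_Ga κ).2.2
    haveI : IsIso bk.inv.left := inferInstanceAs (IsIso ((Over.forget _).map bk.inv))
    exact bk.inv.left.homeomorph.surjective.connectedSpace bk.inv.left.homeomorph.continuous
  haveI : LocallyOfFiniteType GaR.hom := by
    obtain ⟨eR⟩ := exists_iso_polynomial R
    haveI : IsIso eR.hom.left := inferInstanceAs (IsIso ((Over.forget _).map eR.hom))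
    haveI : LocallyOfFiniteType (Over.mk (Spec.map (CommRingCat.ofHom (Polynomial.C : R →+* R[X])))).hom :=
      (HasRingHomProperty.Spec_iff (P := @LocallyOfFiniteType)).2
        (RingHom.finiteType_algebraMap.2 (inferInstance : Algebra.FiniteType R R[X]))
    rw [← Over.w eR.hom]
    infer_instance
  haveI : LocallyOfFiniteType Gak.hom := inferInstanceAs (LocallyOfFiniteType (pullback.snd GaR.hom c))
  let pk := pullback.fst H.hom c
  have hpk : pk ≫ φ.left = ψ.left ≫ pullback.fst GaR.hom c := (pullback.lift_fst _ _ _).symm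
  let s₁ : Spec (CommRingCat.of R) := c (IsLocalRing.closedPoint κ)
  have hrk : ∀ (X : Over (Spec (CommRingCat.of R))), Set.range (pullback.fst X.hom c) = X.hom ⁻¹' {s₁} := by
    intro X
    refine (Scheme.Pullback.range_fst X.hom c).trans (congrArg _ ?_)
    refine Set.Subset.antisymm ?_ (Set.singleton_subset_iff.2 ⟨_, rfl⟩)
    rintro _ ⟨w, rfl⟩
    rw [Set.mem_singleton_iff, Subsingleton.elim (α := PrimeSpectrum κ) w (IsLocalRing.closedPoint κ)]
  let ek : Hk.left := η[Hk].left (IsLocalRing.closedPoint κ)
  haveI : ConnectedSpace Hk.left := by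
    have hcs : IsConnected (Set.range i.left ∩ G.hom ⁻¹' {s₁}) := by
      rw [hpt]
      exact isConnected_connectedComponentIn_iff.2 (GrpNeutral20.unit_over G s₁)
    have hr : Set.range (pk ≫ i.left) = Set.range i.left ∩ G.hom ⁻¹' {s₁} := by
      rw [Scheme.Hom.comp_base, TopCat.coe_comp, Set.range_comp, hrk H, ← Over.w i]
      ext z
      constructor
      · rintro ⟨w, hw, rfl⟩
        exact ⟨⟨w, rfl⟩, by rw [Set.mem_preimage, ← Scheme.Hom.comp_apply]; exact hw⟩
      · rintro ⟨⟨w, rfl⟩, hw⟩
        exact ⟨w, by rw [Set.mem_preimage, Scheme.Hom.comp_apply]; exact hw, rfl⟩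
    haveI : ConnectedSpace (Set.range (pk ≫ i.left)) := isConnected_iff_connectedSpace.1 (hr ▸ hcs)
    exact (pk ≫ i.left).isEmbedding.toHomeomorph.symm.surjective.connectedSpace
      (pk ≫ i.left).isEmbedding.toHomeomorph.symm.continuous
  haveI : IrreducibleSpace Hk.left := by
    have h := GrpField.isIrreducible_connectedComponent Hk ek
    rw [PreconnectedSpace.connectedComponent_eq_univ] at h
    exact { isPreirreducible_univ := h.2, toNonempty := ⟨ek⟩ }
  have hdim : topologicalKrullDim Hk.left = 1 := by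
    show topologicalKrullDim (Red.bc c H).left = 1
    rw [SubSpec19.dim_special (K := K) (IsLocalRing.residue R) IsLocalRing.residue_surjective, ← dim_Ga K]
    haveI : IsIso eH.left := inferInstanceAs (IsIso ((Over.forget _).map eH))
    exact (Scheme.homeoOfIso (asIso eH.left)).isHomeomorph.topologicalKrullDim_eq _
  haveI : CompactSpace Hk.left := (quasiCompact_iff_compactSpace Hk.hom).1 inferInstance
  haveI : IsLocallyNoetherian Hk.left := LocallyOfFiniteType.isLocallyNoetherian Hk.hom
  haveI : IsNoetherian Hk.left := {}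
  haveI : JacobsonSpace Hk.left := LocallyOfFiniteType.jacobsonSpace Hk.hom
  haveI : JacobsonSpace Gak.left := LocallyOfFiniteType.jacobsonSpace Gak.hom
  -- not constant on the special fibre
  obtain ⟨z₁, hz₁y, hz₁π⟩ := Set.not_subset.1 hnd
  let O : GaR.left.Opens := GaR.left.basicOpen (Red.gaFn (𝟙 GaR))
  have hO : φ.left ⁻¹ᵁ O = H.left.basicOpen y := by
    show φ.left ⁻¹ᵁ GaR.left.basicOpen _ = _
    rw [Scheme.preimage_basicOpen_top]
    congr 1
    rw [← GaPts.gaFn_comp, Category.comp_id, GaPts.gaFn_ptOfFn]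
  have hz₁s : H.hom z₁ = s₁ := by
    by_contra hne
    refine hz₁π ?_
    have hsc : scal H π = H.hom.appTop ((Scheme.ΓSpecIso (CommRingCat.of R)).inv π) := rfl
    show z₁ ∈ H.left.basicOpen (scal H π)
    rw [hsc, ← Scheme.preimage_basicOpen_top H.hom]
    show H.hom z₁ ∈ Scheme.basicOpen _ _
    rw [basicOpen_eq_of_affine]
    intro hmem
    refine hne (PrimeSpectrum.ext ?_)
    have h1 : (H.hom z₁ : PrimeSpectrum R).asIdeal = IsLocalRing.maximalIdeal R :=
      le_antisymm (IsLocalRing.le_maximalIdeal (H.hom z₁ : PrimeSpectrum R).isPrime.ne_top)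
        (hπ.maximalIdeal_eq ▸ (Ideal.span_singleton_le_iff_mem _).2 hmem)
    rw [h1]
    show _ = Ideal.comap (IsLocalRing.residue R) (IsLocalRing.closedPoint κ).asIdeal
    rw [show (IsLocalRing.closedPoint κ).asIdeal = ⊥ from IsLocalRing.maximalIdeal_eq_bot, ← RingHom.ker_eq_comap_bot,
      IsLocalRing.ker_residue]
  have hek : pullback.fst GaR.hom c (ψ.left ek) ∉ O := by
    intro h
    have h1 : ψ.left ek = η[Gak].left (IsLocalRing.closedPoint κ) := by
      rw [← Scheme.Hom.comp_apply, ← Over.comp_left, IsMonHom.one_hom]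
    have h' : (ψ.left ≫ pullback.fst GaR.hom c) ek ∈ O := h
    rw [← hpk] at h'
    have h2 : pk ek ∈ H.left.basicOpen y := hO ▸ (h' : pk ek ∈ φ.left ⁻¹ᵁ O)
    have h3 : pk ek = η[H].left s₁ := by
      show (η[Hk].left ≫ pullback.fst H.hom c) (IsLocalRing.closedPoint κ) = _
      rw [GrpNeutral20.unit_fst H c, Scheme.Hom.comp_apply]
      rfl
    rw [h3] at h2
    have h4 : η[H].left.appTop y = 0 := by
      have h := hadd _ η[H] η[H]
      have h11 : (η[H] * η[H] : 𝟙_ (Over (Spec (CommRingCat.of R))) ⟶ H) = η[H] := by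
        rw [MonObj.one_eq_one, _root_.mul_one]
      rw [h11, eq_comm, add_eq_left] at h
      exact h
    have h5 : s₁ ∈ η[H].left ⁻¹ᵁ H.left.basicOpen y := h2
    rw [Scheme.preimage_basicOpen_top, h4, Scheme.basicOpen_zero] at h5
    exact h5
  haveI : LocallyOfFiniteType φ.left := by
    haveI : LocallyOfFiniteType (φ.left ≫ GaR.hom) := by rw [Over.w]; infer_instance
    exact locallyOfFiniteType_of_comp φ.left GaR.hom
  haveI : IsSeparated φ.left := by
    haveI : IsSeparated (φ.left ≫ GaR.hom) := by rw [Over.w]; infer_instance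
    exact IsSeparated.of_comp φ.left GaR.hom
  haveI : IsAffine GaR.left := by
    obtain ⟨eR⟩ := exists_iso_polynomial R
    haveI : IsIso eR.hom.left := inferInstanceAs (IsIso ((Over.forget _).map eR.hom))
    haveI : IsAffine (Over.mk (Spec.map (CommRingCat.ofHom (Polynomial.C : R →+* R[X])))).left :=
      inferInstanceAs (IsAffine (Spec _))
    exact IsAffine.of_isIso eR.hom.left
  haveI : CompactSpace H.left := (quasiCompact_iff_compactSpace H.hom).1 inferInstance
  haveI : QuasiCompact φ.left := quasiCompact_of_compactSpace _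
  have hclosed : ∀ z : Hk.left, ¬ IsClosed ({z} : Set Hk.left) → z = genericPoint Hk.left := by
    intro z hz
    by_contra hne
    apply hz
    rw [← closure_subset_iff_isClosed]
    intro w hw
    by_contra hwz
    have hsp : z ⤳ w := specializes_iff_mem_closure.2 hw
    let C : TopologicalSpace.IrreducibleCloseds Hk.left := ⟨closure {z}, isIrreducible_singleton.closure, isClosed_closure⟩
    let C' : TopologicalSpace.IrreducibleCloseds Hk.left := ⟨closure {w}, isIrreducible_singleton.closure, isClosed_closure⟩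
    let T : TopologicalSpace.IrreducibleCloseds Hk.left := ⟨Set.univ, IrreducibleSpace.isIrreducible_univ _, isClosed_univ⟩
    have h1 : C' < C := by
      refine lt_of_le_of_ne (closure_minimal (Set.singleton_subset_iff.2 hw) isClosed_closure) fun h => hwz ?_
      have h' : closure ({w} : Set Hk.left) = closure {z} := congrArg SetLike.coe h
      exact ((inseparable_iff_closure_eq.2 h').eq)
    have h2 : C < T := by
      refine lt_of_le_of_ne (fun a _ => Set.mem_univ a) fun h => hne ?_
      have h' : closure ({z} : Set Hk.left) = Set.univ := congrArg SetLike.coe h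
      exact (isGenericPoint_def.2 h').eq (genericPoint_spec Hk.left)
    have h3 := Order.LTSeries.length_le_krullDim
      (((RelSeries.singleton _ C').snoc C h1).snoc T (by simpa using h2))
    rw [show Order.krullDim (TopologicalSpace.IrreducibleCloseds Hk.left) = 1 from hdim] at h3
    simp at h3
  haveI : LocallyQuasiFinite φ.left := by
    rw [locallyQuasiFinite_iff_isDiscrete_preimage_singleton]
    intro t
    rw [isDiscrete_iff_discreteTopology]
    by_cases ht : GaR.hom t = s₁
    · obtain ⟨t', rfl⟩ : t ∈ Set.range (pullback.fst GaR.hom c) := (hrk GaR).ge ht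
      have hFr : φ.left ⁻¹' {pullback.fst GaR.hom c t'} = pk '' (ψ.left ⁻¹' {t'}) := by
        ext w
        constructor
        · intro hw
          obtain ⟨w', rfl⟩ : w ∈ Set.range pk := (hrk H).ge (by
            rw [Set.mem_preimage, Set.mem_singleton_iff, ← Over.w φ, Scheme.Hom.comp_apply]
            rw [show φ.left w = pullback.fst GaR.hom c t' from hw]
            exact ht)
          refine ⟨w', (pullback.fst GaR.hom c).isEmbedding.injective ?_, rfl⟩
          show (ψ.left ≫ pullback.fst GaR.hom c) w' = _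
          rw [← hpk]
          exact hw
        · rintro ⟨w', hw', rfl⟩
          show (pk ≫ φ.left) w' = _
          rw [hpk]
          exact congrArg (pullback.fst GaR.hom c) hw'
      let F : Set Hk.left := ψ.left ⁻¹' {t'}
      haveI : QuasiSober F := (ψ.left.fiberHomeo t').symm.isClosedEmbedding.quasiSober
      haveI : DiscreteTopology F := by
        refine discrete_of_closed_points F fun a ha b hb hab => ?_
        by_contra hne
        have ha' : ¬ IsClosed ({a} : Set Hk.left) := fun hca => hne
          ((Set.mem_singleton_iff.1 (hab.mem_closed hca rfl)).symm)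
        have hag := hclosed a ha'
        have hb' : IsClosed ({b} : Set Hk.left) := by
          by_contra hb'
          exact hne (hag.trans (hclosed b hb').symm)
        have ht' : IsClosed ({t'} : Set Gak.left) := by
          haveI : LocallyOfFiniteType ψ.left := by
            haveI : LocallyOfFiniteType (ψ.left ≫ Gak.hom) := by rw [Over.w]; infer_instance
            exact locallyOfFiniteType_of_comp ψ.left Gak.hom
          have := ψ.left.closePoints_subset_preimage_closedPoints hb'
          simp only [Set.mem_preimage, mem_closedPoints_iff] at this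
          rw [show ψ.left b = t' from hb] at this
          exact this
        have hconst : ∀ w : Hk.left, ψ.left w = t' := by
          intro w
          have h1 : genericPoint Hk.left ⤳ w := (genericPoint_spec Hk.left).specializes (Set.mem_univ w)
          have h2 := h1.map ψ.left.continuous
          rw [← hag, show ψ.left a = t' from ha] at h2
          exact Set.mem_singleton_iff.1 (h2.mem_closed ht' rfl)
        obtain ⟨w₁, rfl⟩ : z₁ ∈ Set.range pk := (hrk H).ge hz₁s
        refine hek ?_
        rw [hconst ek, ← hconst w₁]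
        show (ψ.left ≫ pullback.fst GaR.hom c) w₁ ∈ O
        rw [← hpk]
        exact (hO.symm ▸ hz₁y : w₁ ∈ pk ⁻¹ᵁ (φ.left ⁻¹ᵁ O))
      rw [hFr]
      exact (pk.isEmbedding.homeomorphImage F).discreteTopology
    · have hgen : (GaR.hom t) = et (IsLocalRing.closedPoint K) := by
        refine PrimeSpectrum.ext ?_
        show _ = Ideal.comap (algebraMap R K) (IsLocalRing.closedPoint K).asIdeal
        rw [show (IsLocalRing.closedPoint K).asIdeal = ⊥ from IsLocalRing.maximalIdeal_eq_bot, ← RingHom.ker_eq_comap_bot,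
          (RingHom.injective_iff_ker_eq_bot _).1 (IsFractionRing.injective R K)]
        by_contra hne
        refine ht (PrimeSpectrum.ext ?_)
        rw [IsLocalRing.eq_maximalIdeal (Ring.DimensionLEOne.maximalOfPrime hne (GaR.hom t : PrimeSpectrum R).isPrime)]
        show _ = Ideal.comap (IsLocalRing.residue R) (IsLocalRing.closedPoint κ).asIdeal
        rw [show (IsLocalRing.closedPoint κ).asIdeal = ⊥ from IsLocalRing.maximalIdeal_eq_bot, ← RingHom.ker_eq_comap_bot,
          IsLocalRing.ker_residue]
      suffices hsub : (φ.left ⁻¹' {t}).Subsingleton by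
        haveI := (Set.subsingleton_coe _).2 hsub
        infer_instance
      intro a ha b hb
      have hmem : ∀ w ∈ φ.left ⁻¹' {t}, w ∈ Set.range (pullback.fst H.hom et) := by
        intro w hw
        rw [Scheme.Pullback.range_fst]
        refine ⟨IsLocalRing.closedPoint K, ?_⟩
        rw [← Over.w φ, Scheme.Hom.comp_apply, show φ.left w = t from hw, hgen]
      obtain ⟨a', rfl⟩ := hmem a ha
      obtain ⟨b', rfl⟩ := hmem b hb
      congr 1
      refine (ψK.left.isOpenEmbedding.injective) ((pullback.fst GaR.hom et).isEmbedding.injective ?_)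
      have hlf : ∀ w, pullback.fst GaR.hom et (ψK.left w) = φ.left (pullback.fst H.hom et w) := fun w => by
        show (ψK.left ≫ pullback.fst GaR.hom et) w = (pullback.fst H.hom et ≫ φ.left) w
        exact congrArg (fun m : pullback H.hom et ⟶ GaR.left => m w) (pullback.lift_fst _ _ _)
      rw [hlf, hlf, show φ.left (pullback.fst H.hom et a') = t from ha, show φ.left (pullback.fst H.hom et b') = t from hb]
  -- open immersion
  obtain ⟨eR⟩ := exists_iso_polynomial R
  haveI : IsIso eR.hom.left := inferInstanceAs (IsIso ((Over.forget _).map eR.hom))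
  haveI : IsIntegral GaR.left := by
    haveI : IsIntegral (Over.mk (Spec.map (CommRingCat.ofHom (Polynomial.C : R →+* R[X])))).left :=
      inferInstanceAs (IsIntegral (Spec (CommRingCat.of R[X])))
    haveI : Nonempty GaR.left := ⟨η[GaR].left (IsLocalRing.closedPoint R)⟩
    exact isIntegral_of_isOpenImmersion eR.hom.left
  haveI : Smooth GaR.hom := by
    haveI : Smooth (Over.mk (Spec.map (CommRingCat.ofHom (Polynomial.C : R →+* R[X])))).hom :=
      (HasRingHomProperty.Spec_iff (P := @Smooth)).2
        (RingHom.smooth_algebraMap.2 ⟨inferInstance, inferInstance⟩)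
    rw [← Over.w eR.hom]
    infer_instance
  have hnorm : Pi1.IsNormalScheme GaR.left := by
    refine NormalExt19.isNormalScheme_of_smooth GaR.hom fun s => ?_
    haveI : IsIntegral (Spec (CommRingCat.of R)) := inferInstance
    refine ⟨inferInstance, ?_⟩
    letI : Algebra R ((Spec (CommRingCat.of R)).presheaf.stalk s) := StructureSheaf.stalkAlgebra R s
    haveI : IsLocalization.AtPrime ((Spec (CommRingCat.of R)).presheaf.stalk s) (s : PrimeSpectrum R).asIdeal :=
      StructureSheaf.IsLocalization.to_stalk R s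
    exact isIntegrallyClosed_of_isLocalization _ (s : PrimeSpectrum R).asIdeal.primeCompl
      (Ideal.primeCompl_le_nonZeroDivisors _)
  haveI : Nonempty HK.left := ⟨η[HK].left (IsLocalRing.closedPoint K)⟩
  have hdom : ∀ (X : Over (Spec (CommRingCat.of R))) [IsIntegral X.left] [Flat X.hom],
      genericPoint X.left ∈ Set.range (pullback.fst X.hom et) := by
    intro X _ _
    rw [Scheme.Pullback.range_fst]
    refine ⟨IsLocalRing.closedPoint K, ?_⟩
    have hg : X.hom (genericPoint X.left) ⤳ X.hom (genericPoint X.left) := specializes_rfl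
    obtain ⟨w, hw, hw'⟩ := Flat.generalizingMap X.hom
      (show et (IsLocalRing.closedPoint K) ⤳ X.hom (genericPoint X.left) from by
        refine (PrimeSpectrum.le_iff_specializes _ _).1 ?_
        show Ideal.comap (algebraMap R K) (IsLocalRing.closedPoint K).asIdeal ≤ _
        rw [show (IsLocalRing.closedPoint K).asIdeal = ⊥ from IsLocalRing.maximalIdeal_eq_bot, ← RingHom.ker_eq_comap_bot,
          (RingHom.injective_iff_ker_eq_bot _).1 (IsFractionRing.injective R K)]
        exact bot_le)
    rw [← hw', show w = genericPoint X.left from (hw.antisymm ((genericPoint_spec X.left).specializes (Set.mem_univ w))).eq]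
  obtain ⟨ξ, hξ⟩ := hdom H
  obtain ⟨ξ', hξ'⟩ := hdom GaR
  have hsq : pullback.fst H.hom et ≫ φ.left = ψK.left ≫ pullback.fst GaR.hom et := (pullback.lift_fst _ _ _).symm
  haveI : IsDominant φ.left := (isDominant_iff _).2 fun w => by
    obtain ⟨v, rfl⟩ := ψK.left.homeomorph.surjective ξ'
    have h : φ.left (pullback.fst H.hom et v) = genericPoint GaR.left := by
      rw [← Scheme.Hom.comp_apply, hsq, Scheme.Hom.comp_apply]
      exact hξ'
    exact closure_mono (s := ({genericPoint GaR.left} : Set GaR.left)) (t := Set.range φ.left)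
      (fun z hz => ⟨_, h.trans hz.symm⟩) ((genericPoint_spec GaR.left).specializes (Set.mem_univ w)).mem_closure
  have hgen : φ.left (genericPoint H.left) = genericPoint GaR.left := BiratPt18.generic_map φ.left
  have hbir : IsIso (φ.left.stalkMap (genericPoint H.left)) := by
    haveI : Flat et := (HasRingHomProperty.Spec_iff (P := @Flat)).2
      (RingHom.flat_algebraMap_iff.2 (IsLocalization.flat K (nonZeroDivisors R)))
    haveI := AffineFin18.isIso_stalkMap_of_flat_preimmersion (pullback.fst GaR.hom et) (ψK.left ξ)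
    haveI := AffineFin18.isIso_stalkMap_of_flat_preimmersion (pullback.fst H.hom et) ξ
    have h1 : IsIso ((ψK.left ≫ pullback.fst GaR.hom et).stalkMap ξ) := by
      rw [Scheme.Hom.stalkMap_comp]; infer_instance
    rw [← hsq, Scheme.Hom.stalkMap_comp] at h1
    rw [← hξ]
    exact IsIso.of_isIso_comp_right (φ.left.stalkMap (pullback.fst H.hom et ξ)) ((pullback.fst H.hom et).stalkMap ξ)
  obtain ⟨hopen, -⟩ := BiratPt18.isOpenImmersion_of_normal φ.left (fun w => (hnorm w).2) hgen hbir
  haveI := hopen
  haveI : IsMonHom ψ := inferInstanceAs (IsMonHom ((Over.pullback c).map φ))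
  haveI : IsOpenImmersion ψ.left := by
    have h : IsPullback (pullback.fst H.hom c) ψ.left φ.left (pullback.fst GaR.hom c) := by
      refine IsPullback.of_bot (v₂₁ := Gak.hom) (v₂₂ := GaR.hom) (h₃₁ := c) ?_ hpk (IsPullback.of_hasPullback GaR.hom c)
      rw [Over.w φ, Over.w ψ]
      exact IsPullback.of_hasPullback H.hom c
    exact MorphismProperty.of_isPullback (P := @IsOpenImmersion) h ‹_›
  haveI : Surjective φ.left := ⟨fun t => by
    by_cases ht : GaR.hom t = s₁
    · obtain ⟨t', rfl⟩ : t ∈ Set.range (pullback.fst GaR.hom c) := (hrk GaR).ge ht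
      have hop : IsOpen (Set.range ψ.left) := ψ.left.isOpenEmbedding.isOpen_range
      have hcl : IsClosed (Set.range ψ.left) := AbRigid.isClosed_range_of_isOpen ψ hop
      obtain ⟨w, hw⟩ : t' ∈ Set.range ψ.left := by
        rw [(show IsClopen (Set.range ψ.left) from ⟨hcl, hop⟩).eq_univ (Set.range_nonempty _)]
        trivial
      refine ⟨pk w, ?_⟩
      show (pk ≫ φ.left) w = _
      rw [hpk]
      exact congrArg (pullback.fst GaR.hom c) hw
    · obtain ⟨t', rfl⟩ : t ∈ Set.range (pullback.fst GaR.hom et) := by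
        rw [Scheme.Pullback.range_fst]
        refine ⟨IsLocalRing.closedPoint K, PrimeSpectrum.ext ?_⟩
        show Ideal.comap (algebraMap R K) (IsLocalRing.closedPoint K).asIdeal = _
        rw [show (IsLocalRing.closedPoint K).asIdeal = ⊥ from IsLocalRing.maximalIdeal_eq_bot, ← RingHom.ker_eq_comap_bot,
          (RingHom.injective_iff_ker_eq_bot _).1 (IsFractionRing.injective R K)]
        by_contra hne
        refine ht (PrimeSpectrum.ext ?_)
        rw [IsLocalRing.eq_maximalIdeal (Ring.DimensionLEOne.maximalOfPrime (Ne.symm hne) (GaR.hom t : PrimeSpectrum R).isPrime)]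
        show _ = Ideal.comap (IsLocalRing.residue R) (IsLocalRing.closedPoint κ).asIdeal
        rw [show (IsLocalRing.closedPoint κ).asIdeal = ⊥ from IsLocalRing.maximalIdeal_eq_bot, ← RingHom.ker_eq_comap_bot,
          IsLocalRing.ker_residue]
      obtain ⟨w, hw⟩ := ψK.left.homeomorph.surjective t'
      refine ⟨pullback.fst H.hom et w, ?_⟩
      rw [← Scheme.Hom.comp_apply, hsq, Scheme.Hom.comp_apply]
      exact congrArg _ hw⟩
  haveI : IsIso φ.left := (isIso_iff_isOpenImmersion_and_surjective _).2 ⟨inferInstance, inferInstance⟩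
  haveI : IsIso φ := by
    haveI : IsIso ((Over.forget _).map φ) := ‹IsIso φ.left›
    exact isIso_of_reflects_iso φ (Over.forget _)
  haveI : IsIso (inv φ).left := inferInstanceAs (IsIso ((Over.forget _).map (inv φ)))
  refine ⟨(asIso φ).inv ≫ i, inferInstance, ?_⟩
  show IsOpenImmersion ((inv φ).left ≫ i.left)
  infer_instance

end Groth.Agent.AddModel19
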