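import Groth.Agent.Lib.AddModel19.Open
import Groth.Agent.Lib.ModelTors19.Basic

/-!
# The component group of a smooth model of the additive group
-/

set_option autoImplicit false
set_option linter.style.haveILetI false
set_option linter.unusedSectionVars false
set_option backward.isDefEq.respectTransparency false
set_option backward.isDefEq.respectTransparency.types false
universe u

open CategoryTheory CategoryTheory.Limits MonoidalCategory CartesianMonoidalCategory MonObj GrpObj AlgebraicGeometry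

noncomputable section

namespace Groth.Agent.AddModel19

open ModelTors19

variable {R : Type u} [CommRing R] [IsDomain R] {K : Type u} [Field K] [Algebra R K] [IsFractionRing R K]

/-- An open immersion of a subgroup scheme stays one on the special fibre. -/
theorem exists_open_special {G : Over (Spec (CommRingCat.of R))} [GrpObj G] [IsLocalRing R]
    (j : Red.Ga (Spec (CommRingCat.of R)) ⟶ G) [IsMonHom j] [IsOpenImmersion j.left] :
    ∃ j₀ : Red.Ga (Spec (CommRingCat.of (IsLocalRing.ResidueField R))) ⟶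
      Red.bc (Spec.map (CommRingCat.ofHom (IsLocalRing.residue R))) G, IsMonHom j₀ ∧ IsOpenImmersion j₀.left := by
  let c := Spec.map (CommRingCat.ofHom (IsLocalRing.residue R))
  let GaR := Red.Ga (Spec (CommRingCat.of R))
  let q := Limits.IsTerminal.from specULiftZIsTerminal (Spec (CommRingCat.of R))
  let bk := SpreadSub19.bcComp q c
    (c := Limits.IsTerminal.from specULiftZIsTerminal (Spec (CommRingCat.of (IsLocalRing.ResidueField R))))
    (Limits.IsTerminal.hom_ext specULiftZIsTerminal _ _) Red.GaZ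
  haveI : IsMonHom bk.hom := SpreadSub19.bcComp_isMonHom _ _ _ Red.GaZ
  let jc := (Over.pullback c).map j
  haveI : IsOpenImmersion jc.left := by
    have hjc : jc.left ≫ pullback.fst G.hom c = pullback.fst GaR.hom c ≫ j.left := pullback.lift_fst _ _ _
    have h : IsPullback (pullback.fst GaR.hom c) jc.left j.left (pullback.fst G.hom c) := by
      refine IsPullback.of_bot (v₂₁ := (Red.bc c G).hom) (v₂₂ := G.hom) (h₃₁ := c) ?_ ?_ (IsPullback.of_hasPullback G.hom c)
      · rw [Over.w j, Over.w jc]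
        exact IsPullback.of_hasPullback GaR.hom c
      · exact hjc.symm
    exact MorphismProperty.of_isPullback (P := @IsOpenImmersion) h ‹_›
  haveI : IsIso bk.inv.left := inferInstanceAs (IsIso ((Over.forget _).map bk.inv))
  exact ⟨bk.inv ≫ jc, inferInstance, inferInstanceAs (IsOpenImmersion (bk.inv.left ≫ jc.left))⟩

variable [HenselianLocalRing R] {G : Over (Spec (CommRingCat.of R))} [GrpObj G] [IsCommMonObj G]
  [Smooth G.hom] [IsSeparated G.hom] [QuasiCompact G.hom]

local notation "κ" => IsLocalRing.ResidueField R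
local notation "Gk" => Red.bc (Spec.map (CommRingCat.ofHom (IsLocalRing.residue R))) G
local notation "GK" => Red.bc (Spec.map (CommRingCat.ofHom (algebraMap R K))) G

/-- The component group of a model of the additive group in characteristic zero is a `p`-group. -/
theorem exists_pow_mem [IsAlgClosed κ] [CharZero K] (e : GK ≅ Red.Ga (Spec (CommRingCat.of K))) [IsMonHom e.hom]
    (j₀ : Red.Ga (Spec (CommRingCat.of κ)) ⟶ Gk) [IsMonHom j₀] [IsOpenImmersion j₀.left]
    (p : ℕ) [Fact p.Prime] [CharP κ p] (x : 𝟙_ (Over (Spec (CommRingCat.of κ))) ⟶ Gk) :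
    ∃ m : ℕ, SameComp 1 (x ^ p ^ m) := by
  classical
  obtain ⟨-, -, hconn⟩ := AttrBorel21.smooth_affine_Ga κ
  haveI := hconn
  let c := Spec.map (CommRingCat.ofHom (IsLocalRing.residue R))
  haveI : LocallyOfFiniteType (Red.bc c G).hom := inferInstanceAs (LocallyOfFiniteType (pullback.snd G.hom c))
  haveI : QuasiCompact (Red.bc c G).hom := inferInstanceAs (QuasiCompact (pullback.snd G.hom c))
  haveI : CompactSpace (Red.bc c G).left := (quasiCompact_iff_compactSpace (Red.bc c G).hom).1 inferInstance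
  haveI : IsLocallyNoetherian (Red.bc c G).left := LocallyOfFiniteType.isLocallyNoetherian (Red.bc c G).hom
  haveI : IsNoetherian (Red.bc c G).left := {}
  let cc : (𝟙_ (Over (Spec (CommRingCat.of κ))) ⟶ Gk) → Set (Red.bc c G).left := fun x =>
    connectedComponent (x.left (IsLocalRing.closedPoint κ))
  haveI : Finite (Set.range cc) :=
    ((GrpGen20.finite_connectedComponents' (Red.bc c G).left).subset (by rintro _ ⟨x, rfl⟩; exact ⟨_, rfl⟩)).to_subtype
  obtain ⟨a₁, b₁, hab, hcab⟩ : ∃ a b : ℕ, a < b ∧ cc (x ^ a) = cc (x ^ b) := by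
    obtain ⟨a, b, hne, h⟩ := Finite.exists_ne_map_eq_of_infinite (fun i : ℕ => (⟨cc (x ^ i), ⟨_, rfl⟩⟩ : Set.range cc))
    rcases lt_or_gt_of_ne hne with hlt | hlt
    · exact ⟨a, b, hlt, congrArg Subtype.val h⟩
    · exact ⟨b, a, hlt, (congrArg Subtype.val h).symm⟩
  have hn : SameComp 1 (x ^ (b₁ - a₁)) := by
    refine (sameComp_mul_left_iff (x ^ a₁) _ _).1 ?_
    rw [_root_.mul_one, ← pow_add, Nat.add_sub_cancel' hab.le]
    show (x ^ b₁).left _ ∈ connectedComponent _
    rw [show connectedComponent ((x ^ a₁).left (IsLocalRing.closedPoint κ)) = cc (x ^ b₁) from hcab]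
    exact mem_connectedComponent
  obtain ⟨m, a, hpa, hma⟩ := Nat.exists_eq_pow_mul_and_not_dvd (show b₁ - a₁ ≠ 0 by omega) p (Fact.out : p.Prime).ne_one
  refine ⟨m, ?_⟩
  have ha : (a : κ) ≠ 0 := fun h => hpa ((CharP.cast_eq_zero_iff κ p a).1 h)
  obtain ⟨b, hb⟩ := (exists_lift_component j₀ _).1 hn
  obtain ⟨w, rfl⟩ := (ga_pow_bijective ha).2 b
  have hw : (w ≫ j₀) ^ a = x ^ (b₁ - a₁) := (MonObj.pow_comp w a j₀).symm.trans hb
  have hu : IsUnit (a : R) := by
    refine IsUnit.of_map (IsLocalRing.residue R) _ ?_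
    rw [map_natCast]
    exact isUnit_iff_ne_zero.2 ha
  let t := (w ≫ j₀)⁻¹ * x ^ p ^ m
  have ht : t ^ a = 1 := by
    rw [mul_pow, inv_pow, hw, ← pow_mul, ← hma, inv_mul_cancel]
  obtain ⟨f, hf1, -, hfi, hfN⟩ := exists_tors_map (G := G) (K := K)
  have haK : (a : K) ≠ 0 := Nat.cast_ne_zero.2 fun h => hpa (h ▸ dvd_zero p)
  have h2 : f t ≫ e.hom = 1 := by
    refine (ga_pow_bijective haK).1 ?_
    show (f t ≫ e.hom) ^ a = 1 ^ a
    rw [← MonObj.pow_comp, hfN t a hu ht, MonObj.one_comp, one_pow]
  have h3 : t = 1 := by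
    refine hfi _ _ ⟨a, hu, ht⟩ ⟨1, by simp, one_pow _⟩ ?_
    rw [hf1]
    exact (cancel_mono e.hom).1 (h2.trans (MonObj.one_comp e.hom).symm)
  rw [← inv_mul_eq_one.1 h3]
  exact (exists_lift_component j₀ _).2 ⟨w, rfl⟩

end Groth.Agent.AddModel19
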